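/-
The chain of a 2-local subgroup with dihedral quotient and an outer automorphism of its Sylow subgroup.
-/
import Cfsg.Agent.Lib.PGroup.IndexChain.Main
import Cfsg.Agent.Lib.PGroup.Basic
import Mathlib.GroupTheory.SpecificGroups.Dihedral

set_option autoImplicit false

namespace CfsgLib.PGroup.IndexChain.TwoDihedral

open Subgroup
open scoped Pointwise

variable {G : Type*} [Group G]

theorem mem_normalizer_of_smul {R : Subgroup G} {g : G} (h : MulAut.conj g • R = R) :
    g ∈ normalizer (R : Set G) := by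
  rw [mem_normalizer_iff]
  intro a
  conv_rhs => rw [← h]
  rw [show g * a * g⁻¹ = MulAut.conj g • a by simp [MulAut.smul_def, MulAut.conj_apply],
    Subgroup.smul_mem_pointwise_smul_iff]

theorem smul_eq_of_mem_normalizer {R : Subgroup G} {g : G} (h : g ∈ normalizer (R : Set G)) :
    MulAut.conj g • R = R := by
  ext a
  rw [Subgroup.mem_pointwise_smul_iff_inv_smul_mem, (mem_normalizer_iff.1 h) ((MulAut.conj g)⁻¹ • a)]
  simp [MulAut.smul_def, MulAut.conj_apply, mul_assoc]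

theorem subgroupOf_normal {R H : Subgroup G} (h : H ≤ normalizer (R : Set G)) : (R.subgroupOf H).Normal :=
  ⟨fun a ha c => (mem_normalizer_iff.1 (h c.2) a).1 ha⟩

theorem seg_translate (x : ℤ → G) (d i j : ℤ) :
    seg (fun l => x (l + d)) i j = seg x (i + d) (j + d) := by
  refine le_antisymm (seg_le_iff.2 fun l h1 h2 => mem_seg (by omega) (by omega)) (seg_le_iff.2 fun l h1 h2 => ?_)
  have := mem_seg (x := fun l => x (l + d)) (i := i) (j := j) (l := l - d) (by omega) (by omega)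
  simpa using this

theorem _root_.CfsgLib.PGroup.IndexChain.IsChain.translate {p t : ℕ} {x : ℤ → G} (h : IsChain p t x) (d : ℤ) :
    IsChain p t fun l => x (l + d) := by
  refine ⟨fun i k hk => ?_, fun i j e hij => ?_⟩
  · rw [seg_translate, show i + k + d = i + d + k by ring]
    exact h.card _ k hk
  · have := h.shift _ _ e hij
    rwa [show i + d + e = i + e + d by ring, show j + d + e = j + e + d by ring] at this

theorem smul_seg {σ : MulAut G} {x : ℤ → G} (hx : ∀ d l, (σ ^ d) (x l) = x (l + d)) (d i j : ℤ) :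
    σ ^ d • seg x i j = seg x (i + d) (j + d) := by
  rw [← seg_translate, seg, seg, Subgroup.smul_closure]
  congr 1
  rw [← Set.image_smul, Set.image_image]
  exact Set.image_congr fun l _ => hx d l

variable (H P : Subgroup G) (y : G)

/-- Coordinates: `P` is the first window, `H` the union of two adjacent windows and `Q` their overlap. -/
structure Frame (Q : Subgroup G) where
  h : G
  t : ℕ
  x : ℤ → G
  hH : h ∈ H
  ht : 2 ≤ t
  chain : IsChain 2 t x
  segP : seg x 0 t = P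
  segH : seg x 0 (t + 1) = H
  segQ : seg x 1 t = Q
  sup_eq : P ⊔ MulAut.conj h • P = H
  shift : ∀ d l, ((MulAut.conj (h * y)) ^ d) (x l) = x (l + d)

variable {H P y}

theorem Frame.smul_seg {Q : Subgroup G} (F : Frame H P y Q) (i j : ℤ) :
    MulAut.conj F.h • (MulAut.conj y • seg F.x i j) = seg F.x (i + 1) (j + 1) := by
  rw [← mul_smul, ← map_mul, ← TwoDihedral.smul_seg F.shift 1, zpow_one]

theorem Frame.conj_x {Q : Subgroup G} (F : Frame H P y Q) (l : ℤ) :
    F.h * (y * F.x l * y⁻¹) * F.h⁻¹ = F.x (l + 1) := by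
  rw [← F.shift 1 l, zpow_one, MulAut.conj_apply]
  group

open DihedralGroup in
theorem dihedral_odd {X : Type*} [Group X] [Finite X] {n : ℕ} (hn : 2 ≤ n) (f : X →* DihedralGroup n)
    (hf : Function.Surjective f) (hker : f.ker = Cfsg.pCore 2 X) : Odd n := by
  classical
  haveI : Fact (Nat.Prime 2) := ⟨Nat.prime_two⟩
  by_contra hno
  obtain ⟨k, hk⟩ := Nat.not_odd_iff_even.1 hno
  haveI : NeZero n := ⟨by omega⟩
  have hkk : ((k : ℕ) : ZMod n) + k = 0 := by rw [← Nat.cast_add, ← hk, ZMod.natCast_self]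
  obtain ⟨z, hz⟩ : ∃ z, z = r ((k : ℕ) : ZMod n) := ⟨_, rfl⟩
  have hz2 : z * z = 1 := by rw [hz, r_mul_r, hkk, r_zero]
  have hz1 : z ≠ 1 := by
    rw [hz, ← r_zero, Ne, r.injEq, ZMod.natCast_eq_zero_iff]
    exact fun h => by have := Nat.le_of_dvd (by omega) h; omega
  haveI : (zpowers z).Normal := ⟨fun a ha g => by
    obtain ⟨m, rfl⟩ := mem_zpowers_iff.1 ha
    have hc : Commute g z := by
      rcases g with a | a
      · rw [hz]; exact congrArg r (add_comm _ _)
      · rw [hz]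
        show sr (a + ((k : ℕ) : ZMod n)) = sr (a - ((k : ℕ) : ZMod n))
        rw [sub_eq_add_neg, ← eq_neg_of_add_eq_zero_left hkk]
    rwa [(hc.zpow_right m).eq, mul_inv_cancel_right]⟩
  have hp : IsPGroup 2 (zpowers z) := fun ⟨a, ha⟩ => by
    obtain ⟨m, rfl⟩ := mem_zpowers_iff.1 ha
    exact ⟨1, Subtype.ext (by
      show (z ^ m) ^ (2 ^ 1) = 1
      rw [pow_one, sq, ← (Commute.refl z).mul_zpow, hz2, one_zpow])⟩
  have hle : (zpowers z).comap f ≤ f.ker := hker ▸ le_pCore inferInstance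
    (hp.comap_of_ker_isPGroup f (hker ▸ isPGroup_pCore 2 X))
  obtain ⟨g, hg⟩ := hf z
  exact hz1 (hg ▸ MonoidHom.mem_ker.1 (hle (show f g ∈ zpowers z from hg ▸ mem_zpowers z)))

open DihedralGroup in
theorem dihedral_gen {X : Type*} [Group X] {n : ℕ} (hodd : Odd n) (f : X →* DihedralGroup n) {g p : X}
    (hg : f g = r 1) {i : ZMod n} (hp : f p = sr i) {U : Subgroup X} (hker : f.ker ≤ U) (hpU : p ∈ U)
    (hgU : g * p * g⁻¹ ∈ U) : U = ⊤ := by
  obtain ⟨k, hk⟩ := hodd
  haveI : NeZero n := ⟨by omega⟩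
  have h2 : r (2 : ZMod n) ∈ U.map f := by
    refine ⟨g * p * g⁻¹ * p, mul_mem hgU hpU, ?_⟩
    rw [map_mul, map_mul, map_mul, map_inv, hg, hp, inv_r, r_mul_sr, sr_mul_r, sr_mul_sr]
    congr 1
    ring
  have hall : ∀ j : ZMod n, r j ∈ U.map f := fun j => by
    have h := pow_mem h2 ((k + 1) * j.val)
    rw [r_pow] at h
    convert h using 2
    have : ((2 * k + 1 : ℕ) : ZMod n) = 0 := by rw [← hk, ZMod.natCast_self]
    push_cast at this ⊢
    rw [ZMod.natCast_zmod_val]
    linear_combination (-j) * this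
  refine eq_top_iff.2 fun u _ => ?_
  have hu : f u ∈ U.map f := by
    rcases hfu : f u with j | j
    · exact hall j
    · rw [show sr j = sr i * r (j - i) by rw [sr_mul_r]; congr 1; ring]
      exact mul_mem ⟨p, hpU, hp⟩ (hall _)
  have : u ∈ (U.map f).comap f := hu
  rwa [comap_map_eq, sup_eq_left.2 hker] at this

variable [Finite G]

/-- The coordinates exist. -/
theorem exists_frame (hO : Cfsg.pCore 2 ↥H ≠ ⊥) (n : ℕ) (hn : 2 ≤ n)
    (hdih : Nonempty (↥H ⧸ Cfsg.pCore 2 ↥H ≃* DihedralGroup n)) (hPH : P ≤ H) (hP : IsPGroup 2 P)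
    (hPsyl : ¬ 2 ∣ P.relIndex H) (hyN : MulAut.conj y • P = P)
    (hy : ∀ R R' : Subgroup G, R ≤ P → R' ≤ P → (R.subgroupOf H).Normal → (R'.subgroupOf H).Normal →
      MulAut.conj y • R = R' → R = ⊥) :
    Nonempty (Frame H P y ((Cfsg.pCore 2 ↥H).map H.subtype)) := by
  classical
  haveI : Fact (Nat.Prime 2) := ⟨Nat.prime_two⟩
  haveI : NeZero n := ⟨by omega⟩
  obtain ⟨e⟩ := hdih
  haveI hQn : (Cfsg.pCore 2 ↥H).Normal := Subgroup.sSup_normal _ fun _ h => h.1
  let f : H →* DihedralGroup n := e.toMonoidHom.comp (QuotientGroup.mk' _)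
  have hfs : Function.Surjective f := e.surjective.comp (QuotientGroup.mk'_surjective _)
  have hker : f.ker = Cfsg.pCore 2 ↥H := by
    refine Eq.trans ?_ (QuotientGroup.ker_mk' _)
    ext a
    simp [f]
  have hodd := dihedral_odd hn f hfs hker
  obtain ⟨Q, hQ⟩ : ∃ Q, Q = (Cfsg.pCore 2 ↥H).map H.subtype := ⟨_, rfl⟩
  rw [← hQ]
  have hQsub : Q.subgroupOf H = Cfsg.pCore 2 ↥H := by
    rw [hQ, subgroupOf, comap_map_eq_self_of_injective H.subtype_injective]
  have hQH : Q ≤ H := hQ ▸ map_subtype_le _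
  let T : Sylow 2 H := (hP.comap_of_injective H.subtype H.subtype_injective).toSylow hPsyl
  have hQP : Q ≤ P := by
    rw [hQ]
    exact (map_mono (pCore_le_sylow T)).trans (map_comap_le _ _)
  have hcardQ : Nat.card Q = Nat.card (Cfsg.pCore 2 ↥H) := by rw [hQ, card_map_of_injective H.subtype_injective]
  -- `P` is twice as large as `Q`
  have hPQ : Nat.card P = 2 * Nat.card Q := by
    have h1 : Nat.card H = Nat.card Q * (2 * n) := by
      rw [hcardQ, ← (Cfsg.pCore 2 ↥H).card_mul_index, Subgroup.index, Nat.card_congr e.toEquiv, DihedralGroup.nat_card]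
    have h2 := Subgroup.index_mul_card (P.subgroupOf H)
    rw [Nat.card_congr (subgroupOfEquivOfLe hPH).toEquiv] at h2
    obtain ⟨a, ha⟩ := hP.exists_card_eq
    obtain ⟨b, hb⟩ := ((isPGroup_pCore 2 ↥H).map H.subtype).exists_card_eq
    rw [← hQ] at hb
    rw [ha, h1, hb] at h2
    have hodd2 : Odd (P.subgroupOf H).index := Nat.odd_iff.2 (Nat.two_dvd_ne_zero.1 hPsyl)
    have h3 : 2 ^ a ∣ 2 ^ (b + 1) := (Nat.Coprime.dvd_mul_right ((Nat.coprime_two_left.2 hodd).pow_left a)).1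
      ⟨(P.subgroupOf H).index, by rw [mul_comm (2 ^ a), h2]; ring⟩
    have h4 : 2 ^ (b + 1) ∣ 2 ^ a := (Nat.Coprime.dvd_mul_left ((Nat.coprime_two_left.2 hodd2).pow_left _)).1
      ⟨n, by rw [h2]; ring⟩
    rw [ha, hb, Nat.dvd_antisymm h3 h4, pow_succ']
  -- an involution of the quotient
  have hidxP : Q.relIndex P = 2 := by
    have h1 := Subgroup.index_mul_card (Q.subgroupOf P)
    rw [Nat.card_congr (subgroupOfEquivOfLe hQP).toEquiv, hPQ, mul_left_inj' Nat.card_pos.ne'] at h1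
    exact h1
  obtain ⟨p, hpP, hpQ⟩ : ∃ p ∈ P, p ∉ Q := by
    by_contra hc
    push Not at hc
    have := Subgroup.card_le_of_le (show P ≤ Q from hc)
    have hpos := Nat.card_pos (α := Q)
    omega
  obtain ⟨i, hi⟩ : ∃ i, f ⟨p, hPH hpP⟩ = DihedralGroup.sr i := by
    have hne : f ⟨p, hPH hpP⟩ ≠ 1 := fun h1 => hpQ (hQ ▸ ⟨_, hker ▸ MonoidHom.mem_ker.2 h1, rfl⟩)
    have hsq : f ⟨p, hPH hpP⟩ * f ⟨p, hPH hpP⟩ = 1 := by
      have hpp : p * p ∈ Q :=
        (Subgroup.mul_mem_iff_of_index_two hidxP (a := (⟨p, hpP⟩ : P)) (b := ⟨p, hpP⟩)).2 Iff.rfl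
      rw [← map_mul, ← MonoidHom.mem_ker, hker, ← hQsub]
      exact hpp
    rcases hfp : f ⟨p, hPH hpP⟩ with j | j
    · exfalso
      rw [hfp, DihedralGroup.r_mul_r, ← DihedralGroup.r_zero, DihedralGroup.r.injEq] at hsq
      obtain ⟨k, hk⟩ := hodd
      refine hne ?_
      rw [hfp, ← DihedralGroup.r_zero]
      congr 1
      have : ((2 * k + 1 : ℕ) : ZMod n) = 0 := by rw [← hk, ZMod.natCast_self]
      push_cast at this
      linear_combination ((k : ZMod n) + 1) * hsq - j * this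
    · exact ⟨j, rfl⟩
  obtain ⟨⟨h, hhH⟩, hh⟩ := hfs (DihedralGroup.r 1)
  have hhQ : MulAut.conj h • Q = Q := smul_eq_of_mem_normalizer
    ((normal_subgroupOf_iff_le_normalizer hQH).1 (hQsub ▸ hQn) hhH)
  have hsup : P ⊔ MulAut.conj h • P = H := by
    have hle : P ⊔ MulAut.conj h • P ≤ H := sup_le hPH (conj_smul_le_of_le hPH ⟨h, hhH⟩)
    refine le_antisymm hle ?_
    have htop := dihedral_gen hodd f hh hi (U := (P ⊔ MulAut.conj h • P).subgroupOf H)
      (hker ▸ hQsub ▸ fun a ha => mem_sup_left (hQP ha)) (mem_sup_left hpP)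
      (mem_sup_right (Subgroup.smul_mem_pointwise_smul p (MulAut.conj h) P hpP))
    exact fun a ha => (htop.ge (mem_top (⟨a, ha⟩ : H)) : _)
  obtain ⟨σ, hσ⟩ : ∃ σ, σ = MulAut.conj (h * y) := ⟨_, rfl⟩
  have hσsmul : ∀ R : Subgroup G, σ • R = MulAut.conj h • (MulAut.conj y • R) := fun R => by
    rw [hσ, map_mul, mul_smul]
  have hσP : σ • P = MulAut.conj h • P := by rw [hσsmul, hyN]
  have hcardσ : Nat.card ↥(σ • P) = Nat.card P := card_smul σ P
  have hne : ¬ P ≤ σ • P := fun hle => by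
    have e1 := Subgroup.eq_of_le_of_card_ge hle hcardσ.le
    rw [← hσP, ← e1, sup_idem] at hsup
    have h1 : Nat.card H = Nat.card Q * (2 * n) := by
      rw [hcardQ, ← (Cfsg.pCore 2 ↥H).card_mul_index, Subgroup.index, Nat.card_congr e.toEquiv, DihedralGroup.nat_card]
    rw [← hsup, hPQ] at h1
    have hpos := Nat.card_pos (α := Q)
    nlinarith
  have hQσ : Q ≤ σ • P := by rw [hσP, ← hhQ]; exact smul_mono _ hQP
  have hinf : P ⊓ σ • P = Q := by
    refine (Subgroup.eq_of_le_of_card_ge (le_inf hQP hQσ) ?_).symm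
    have hd := Subgroup.card_dvd_of_le (inf_le_left : P ⊓ σ • P ≤ P)
    have hd' := Subgroup.card_dvd_of_le (le_inf hQP hQσ)
    obtain ⟨c, hc⟩ := hd'
    rw [hc, hPQ, mul_comm 2] at hd
    rcases (Nat.dvd_prime Nat.prime_two).1 (Nat.dvd_of_mul_dvd_mul_left Nat.card_pos hd) with rfl | rfl
    · rw [hc, mul_one]
    · refine absurd ?_ hne
      exact (Subgroup.eq_of_le_of_card_ge (inf_le_left : P ⊓ σ • P ≤ P) (by rw [hc, hPQ, mul_comm])).ge.trans inf_le_right
  have hidx : (P ⊓ σ • P).relIndex (σ • P) = 2 := by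
    have h1 := Subgroup.index_mul_card ((P ⊓ σ • P).subgroupOf (σ • P))
    rw [Nat.card_congr (subgroupOfEquivOfLe inf_le_right).toEquiv, hcardσ, hPQ, hinf,
      mul_left_inj' Nat.card_pos.ne'] at h1
    rw [hinf]
    exact h1
  have hN : ((P ⊓ σ • P).subgroupOf (σ • P)).Normal := normal_of_index_eq_two hidx
  have h1 : ∀ R : Subgroup G, R ≤ P → (R.subgroupOf P).Normal → σ • R = R → R = ⊥ := by
    intro R hR hRn hfix
    have hPN : P ≤ normalizer (R : Set G) := (normal_subgroupOf_iff_le_normalizer hR).1 hRn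
    have hσN : σ • P ≤ normalizer (R : Set G) := by
      intro g hg
      obtain ⟨q, hq, rfl⟩ := (Subgroup.mem_smul_pointwise_iff_exists g σ P).1 hg
      refine mem_normalizer_of_smul ?_
      have hq' := smul_eq_of_mem_normalizer (hPN hq)
      have e : MulAut.conj (σ • q) = σ * MulAut.conj q * σ⁻¹ := by
        ext a; simp [MulAut.smul_def]
      rw [e, mul_smul, mul_smul, inv_smul_eq_iff.2 hfix.symm, hq', hfix]
    have hHN : H ≤ normalizer (R : Set G) := hsup ▸ sup_le hPN (hσP ▸ hσN)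
    have hyR : MulAut.conj y • R = R := by
      apply smul_left_cancel (MulAut.conj h)
      rw [← hσsmul, hfix, smul_eq_of_mem_normalizer (hHN hhH)]
    exact hy R R hR hR (subgroupOf_normal hHN) (subgroupOf_normal hHN) hyR
  obtain ⟨t, e₀, ht, hcard, -, hchain, hseg⟩ := exists_chain σ P hN hidx h1
  obtain ⟨x₀, hx₀⟩ : ∃ x₀ : ℤ → G, x₀ = fun l => (σ ^ l) e₀ := ⟨_, rfl⟩
  rw [← hx₀] at hchain hseg
  obtain ⟨x, hx⟩ : ∃ x : ℤ → G, x = fun l => x₀ (l + (1 - t)) := ⟨_, rfl⟩
  have hchain' : IsChain 2 t x := hx ▸ hchain.translate _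
  have hsegP : seg x 0 t = P := by
    rw [hx, seg_translate, zero_add, show (t : ℤ) + (1 - t) = 1 by ring, hseg]
  have hshift : ∀ d l, (σ ^ d) (x l) = x (l + d) := fun d l => by
    rw [hx, hx₀]
    simp only
    rw [← MulAut.mul_apply, ← zpow_add]
    congr 2; ring
  have hσseg : seg x 1 (t + 1) = MulAut.conj h • P := by
    have := TwoDihedral.smul_seg hshift 1 0 t
    rwa [zero_add, hsegP, zpow_one, hσP, eq_comm] at this
  have ht2 : 2 ≤ t := by
    by_contra hc
    obtain rfl : t = 1 := by omega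
    refine hO ?_
    rw [← Subgroup.card_eq_one, ← hcardQ]
    rw [hcard] at hPQ
    omega
  refine ⟨⟨h, t, x, hhH, ht2, hchain', hsegP, ?_, ?_, hsup, fun d l => hσ ▸ hshift d l⟩⟩
  · rw [← hsup, ← hsegP]
    refine le_antisymm (seg_le_iff.2 fun l h1 h2 => ?_) (sup_le (seg_mono le_rfl (by omega)) ?_)
    · rcases lt_or_ge l (t : ℤ) with hl | hl
      · exact mem_sup_left (mem_seg h1 hl)
      · refine mem_sup_right ?_
        rw [hsegP, ← hσseg]
        exact mem_seg (by omega) h2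
    · rw [hsegP, ← hσseg]
      exact seg_mono (by omega) le_rfl
  · haveI := hchain'.finite (i := 1) (j := t) (by omega)
    refine Subgroup.eq_of_le_of_card_ge (hinf ▸ le_inf (hsegP ▸ seg_mono (by omega) le_rfl) ?_) ?_
    · rw [hσP, ← hσseg]
      exact seg_mono le_rfl (by omega)
    · rw [hchain'.card' (by omega) (by omega), show ((t : ℤ) - 1).toNat = t - 1 by omega]
      rw [hcard, show t = t - 1 + 1 by omega, pow_succ'] at hPQ
      omega

end CfsgLib.PGroup.IndexChain.TwoDihedral
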