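/-
Small windows: the cases of too large commuting distance and of length six are impossible.
-/
import Cfsg.Agent.Lib.PGroup.IndexChain.TwoDihedral.Frame

set_option autoImplicit false

namespace CfsgLib.PGroup.IndexChain.TwoDihedral

open Subgroup
open scoped Pointwise

variable {G : Type*} [Group G]

/-- The commutator. -/
def cm (x : ℤ → G) (i j : ℤ) : G := x i * x j * (x i)⁻¹ * (x j)⁻¹

theorem cm_swap (x : ℤ → G) (i j : ℤ) : cm x j i = (cm x i j)⁻¹ := by simp [cm, mul_assoc]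

theorem cm_eq_one {x : ℤ → G} {i j : ℤ} (h : Commute (x i) (x j)) : cm x i j = 1 := by
  rw [cm, h.eq, mul_inv_cancel_right, mul_inv_cancel]

theorem cm_mem_shift {σ : MulAut G} {x : ℤ → G} (hx : ∀ d l, (σ ^ d) (x l) = x (l + d)) {i j u v : ℤ}
    (h : cm x i j ∈ seg x u v) (d : ℤ) : cm x (i + d) (j + d) ∈ seg x (u + d) (v + d) := by
  rw [← smul_seg hx, show cm x (i + d) (j + d) = σ ^ d • cm x i j by simp [cm, MulAut.smul_def, hx]]
  exact Subgroup.smul_mem_pointwise_smul _ _ _ h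

theorem mul_self_eq_one {t : ℕ} {x : ℤ → G} (h : IsChain 2 t x) (ht : 1 ≤ t) (l : ℤ) : x l * x l = 1 := by
  have hc : Nat.card (seg x l (l + (1 : ℕ))) = 2 := by rw [h.card l 1 ht, pow_one]
  have := pow_card_eq_one' (x := (⟨x l, mem_seg le_rfl (by norm_num)⟩ : seg x l (l + (1 : ℕ))))
  rw [hc, sq] at this
  exact congrArg Subtype.val this

theorem ne_one {t : ℕ} {x : ℤ → G} (h : IsChain 2 t x) (ht : 1 ≤ t) (l : ℤ) : x l ≠ 1 := fun e => by
  have hc : Nat.card (seg x l (l + (1 : ℕ))) = 2 := by rw [h.card l 1 ht, pow_one]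
  have hb : seg x l (l + (1 : ℕ)) = ⊥ := le_bot_iff.1 (seg_le_iff.2 fun m h1 h2 => by
    rw [show m = l by omega, e]; exact one_mem _)
  rw [hb, Subgroup.card_bot] at hc
  omega

theorem inv_eq_self {t : ℕ} {x : ℤ → G} (h : IsChain 2 t x) (ht : 1 ≤ t) (l : ℤ) : (x l)⁻¹ = x l :=
  inv_eq_of_mul_eq_one_left (mul_self_eq_one h ht l)

theorem commute_seg {x : ℤ → G} {i j : ℤ} (hc : ∀ m n, i ≤ m → m < j → i ≤ n → n < j → Commute (x m) (x n))
    {u v : G} (hu : u ∈ seg x i j) (hv : v ∈ seg x i j) : Commute u v := by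
  have hu' : seg x i j ≤ centralizer {v} := seg_le_iff.2 fun m h1 h2 => by
    have hv' : seg x i j ≤ centralizer {x m} := seg_le_iff.2 fun n h3 h4 =>
      mem_centralizer_singleton_iff.2 (hc n m h3 h4 h1 h2).eq
    exact mem_centralizer_singleton_iff.2 (mem_centralizer_singleton_iff.1 (hv' hv)).symm
  exact mem_centralizer_singleton_iff.1 (hu' hu)

theorem sq_seg {t : ℕ} {x : ℤ → G} (h : IsChain 2 t x) (ht : 1 ≤ t) {i j : ℤ}
    (hc : ∀ m n, i ≤ m → m < j → i ≤ n → n < j → Commute (x m) (x n))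
    {u : G} (hu : u ∈ seg x i j) : u * u = 1 := by
  refine closure_induction (p := fun g _ => g * g = 1) ?_ (one_mul 1) (fun a b ha hb h1 h2 => ?_)
    (fun a _ h1 => by rw [← mul_inv_rev, h1, inv_one]) hu
  · rintro _ ⟨l, -, rfl⟩; exact mul_self_eq_one h ht l
  · show a * b * (a * b) = 1
    rw [mul_assoc, ← mul_assoc b, (commute_seg hc hb ha).eq, mul_assoc a b b, h2, mul_one, h1]

theorem eq_of_between [Finite G] {A M B : Subgroup G} (hAM : A ≤ M) (hMB : M ≤ B) (hne : ¬ B ≤ M)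
    (hcard : Nat.card B = 2 * Nat.card A) : M = A := by
  refine (Subgroup.eq_of_le_of_card_ge hAM ?_).symm
  obtain ⟨c, hc⟩ := Subgroup.card_dvd_of_le hAM
  have hd := Subgroup.card_dvd_of_le hMB
  rw [hc, hcard, mul_comm 2] at hd
  rcases (Nat.dvd_prime Nat.prime_two).1 (Nat.dvd_of_mul_dvd_mul_left Nat.card_pos hd) with rfl | rfl
  · rw [hc, mul_one]
  · exact absurd (Subgroup.eq_of_le_of_card_ge hMB (by rw [hc, hcard, mul_comm])).ge hne

variable [Finite G]

theorem card_step {t : ℕ} {x : ℤ → G} (h : IsChain 2 t x) {i j i' j' : ℤ} (hij : i ≤ j) (h1 : j' - i' = j - i + 1)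
    (h2 : j' ≤ i' + t) : Nat.card (seg x i' j') = 2 * Nat.card (seg x i j) := by
  haveI : Fact (Nat.Prime 2) := ⟨Nat.prime_two⟩
  rw [h.card' (by omega) (by omega), h.card' hij (by omega), ← pow_succ']
  congr 1
  omega

theorem mem_normalizer_seg {t : ℕ} {x : ℤ → G} (h : IsChain 2 t x) (ht : 1 ≤ t) {i j m : ℤ}
    (hm : ∀ l, i ≤ l → l < j → cm x m l ∈ seg x i j) : x m ∈ normalizer (seg x i j : Set G) := by
  have hle : seg x i j ≤ (seg x i j).comap (MulAut.conj (x m)).toMonoidHom := seg_le_iff.2 fun l h1 h2 => by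
    show x m * x l * (x m)⁻¹ ∈ seg x i j
    have := mul_mem (hm l h1 h2) (mem_seg (x := x) h1 h2)
    rwa [cm, inv_mul_cancel_right] at this
  refine mem_normalizer_iff.2 fun z => ⟨fun hz => hle hz, fun hz => ?_⟩
  have h1 : x m * (x m * z * (x m)⁻¹) * (x m)⁻¹ ∈ seg x i j := hle hz
  rwa [inv_eq_self h ht, mul_assoc (x m) z, ← mul_assoc (x m) (x m), mul_self_eq_one h ht, one_mul,
    mul_assoc z, mul_self_eq_one h ht, mul_one] at h1

variable {H P Q : Subgroup G} {y : G} (F : Frame H P y Q)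
  (hy : ∀ R R' : Subgroup G, R ≤ P → R' ≤ P → (R.subgroupOf H).Normal → (R'.subgroupOf H).Normal →
    MulAut.conj y • R = R' → R = ⊥) (hyN : MulAut.conj y • P = P)
  {a : ℕ} (hcomm : ∀ i j : ℤ, i < j + a → j < i + a → Commute (F.x i) (F.x j))
include hy hyN hcomm

theorem Frame.small : 2 * a ≤ F.t + 2 ∨ F.t < a := by
  by_contra hc
  push Not at hc
  obtain ⟨hbig, hat⟩ := hc
  have hsingle : ∀ l, (F.t : ℤ) - a < l → l < a → F.x l ∈ P →
      ((zpowers (F.x l)).subgroupOf H).Normal := fun l h1 h2 _ => subgroupOf_normal (by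
    intro g hg
    rw [← F.segH] at hg
    have hc : seg F.x 0 (F.t + 1) ≤ centralizer {F.x l} := seg_le_iff.2 fun m h3 h4 =>
      mem_centralizer_singleton_iff.2 (hcomm m l (by omega) (by omega)).eq
    refine mem_normalizer_of_smul ?_
    rw [zpowers_eq_closure, Subgroup.smul_closure]
    congr 1
    rw [Set.smul_set_singleton, MulAut.smul_def, MulAut.conj_apply, mem_centralizer_singleton_iff.1 (hc hg),
      mul_inv_cancel_right])
  obtain ⟨l, hl⟩ : ∃ l : ℤ, l = (F.t : ℤ) - a + 1 := ⟨_, rfl⟩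
  have hlP : F.x l ∈ P := F.segP.le (mem_seg (by omega) (by omega))
  have hy1 : y * F.x l * y⁻¹ = F.x (l + 1) := by
    have h1 := F.conj_x l
    have hc : seg F.x 0 (F.t + 1) ≤ centralizer {F.x (l + 1)} := seg_le_iff.2 fun m h3 h4 =>
      mem_centralizer_singleton_iff.2 (hcomm m (l + 1) (by omega) (by omega)).eq
    have hh := mem_centralizer_singleton_iff.1 (hc (F.segH.ge F.hH))
    calc y * F.x l * y⁻¹ = F.h⁻¹ * F.x (l + 1) * F.h := by rw [← h1]; group
      _ = F.x (l + 1) := by rw [mul_assoc, ← hh, inv_mul_cancel_left]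
  have hl1P : F.x (l + 1) ∈ P := by
    have h := Subgroup.smul_mem_pointwise_smul _ (MulAut.conj y) P hlP
    rwa [hyN, MulAut.smul_def, MulAut.conj_apply, hy1] at h
  have := hy (zpowers (F.x l)) (zpowers (F.x (l + 1))) (zpowers_le.2 hlP) (zpowers_le.2 hl1P)
    (hsingle l (by omega) (by omega) hlP) (hsingle (l + 1) (by omega) (by omega) hl1P) (by
      rw [zpowers_eq_closure, zpowers_eq_closure, Subgroup.smul_closure, Set.smul_set_singleton, MulAut.smul_def,
        MulAut.conj_apply, hy1])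
  exact ne_one F.chain (le_trans (by norm_num) F.ht) l (zpowers_eq_bot.1 this)

theorem Frame.six_false (ht : F.t = 6) (ha : a = 4) (hne : ¬ Commute (F.x 0) (F.x 4)) : False := by
  haveI : Fact (Nat.Prime 2) := ⟨Nat.prime_two⟩
  subst ha
  have hch := F.chain
  obtain ⟨x, hx⟩ : ∃ x, x = F.x := ⟨_, rfl⟩
  have hsh : ∀ d l, ((MulAut.conj (F.h * y)) ^ d) (x l) = x (l + d) := hx ▸ F.shift
  have hsP : seg x 0 6 = P := by
    have h := F.segP
    rw [ht] at h
    rw [hx]; exact h
  have hsH : seg x 0 7 = H := by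
    have h := F.segH
    rw [ht] at h
    rw [hx]; exact h
  rw [← hx, ht] at hch
  rw [← hx] at hne hcomm
  have hcomm' : ∀ i j : ℤ, i ≤ j → j < i + (4 : ℕ) → Commute (x i) (x j) := fun i j h1 h2 => hcomm i j (by omega) h2
  have hi : ∀ l, x l * x l = 1 := mul_self_eq_one hch (by norm_num)
  -- the two commutators
  have c1 : cm x 0 4 ∈ seg x 2 4 := hch.commutator_high (a := 4) (by norm_num) (by norm_num) hcomm' hne
  have c2 : cm x 0 4 ∈ seg x 1 3 := by
    have h := (hch.reflect 4).commutator_high (a := 4) (by norm_num) (by norm_num)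
      (fun i j hij hj => (hcomm' (4 - j) (4 - i) (by omega) (by omega)).symm)
      (fun hc => hne (by simpa using hc.symm))
    rw [seg_reflect] at h
    have h' := inv_mem h
    simpa [cm, mul_inv_rev, mul_assoc] using h'
  have hd : cm x 0 5 ∈ seg x 1 4 := by
    have h15 : cm x 0 5 ∈ seg x 1 5 := hch.commutator_mem (i := 0) (j := 5) (by norm_num) (by norm_num)
    have hab : ∀ m n : ℤ, 1 ≤ m → m < 5 → 1 ≤ n → n < 5 → Commute (x m) (x n) := fun m n _ _ _ _ =>
      hcomm m n (by omega) (by omega)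
    have hdd := sq_seg hch (by norm_num) hab h15
    have hd0 : x 0 * cm x 0 5 = cm x 0 5 * x 0 := by
      have hinv := inv_eq_of_mul_eq_one_left hdd
      rw [cm, inv_eq_self hch (by norm_num), inv_eq_self hch (by norm_num)] at hinv ⊢
      rw [mul_inv_rev, mul_inv_rev, mul_inv_rev, inv_eq_self hch (by norm_num), inv_eq_self hch (by norm_num)] at hinv
      calc x 0 * (x 0 * x 5 * x 0 * x 5) = (x 0 * x 0) * (x 5 * x 0 * x 5) := by simp only [mul_assoc]
        _ = (x 5 * (x 0 * (x 5 * x 0))) * x 0 := by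
          rw [hi 0, one_mul]; simp only [mul_assoc, hi 0, mul_one]
        _ = (x 0 * x 5 * x 0 * x 5) * x 0 := by rw [hinv]
    have heq := eq_of_between (A := seg x 1 4) (M := seg x 1 5 ⊓ centralizer {x 0}) (B := seg x 1 5)
      (le_inf (seg_mono le_rfl (by norm_num)) (seg_le_iff.2 fun l h1 h2 =>
        mem_centralizer_singleton_iff.2 (hcomm l 0 (by omega) (by omega)).eq)) inf_le_left
      (fun hle => hne (mem_centralizer_singleton_iff.1 (hle (mem_seg (x := x) (l := 4) (by norm_num) (by norm_num))).2).symm)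
      (card_step hch (by norm_num) (by norm_num) (by norm_num))
    exact heq.le ⟨h15, mem_centralizer_singleton_iff.2 hd0.symm⟩
  -- `[1,5)` and `[2,5)` are normal in `H`
  have hnorm : ∀ u v : ℤ, (u = 1 ∨ u = 2) → v = 5 → H ≤ normalizer (seg x u v : Set G) := by
    intro u v hu hv
    rw [← hsH]
    refine seg_le_iff.2 fun m hm1 hm2 => mem_normalizer_seg hch (by norm_num) fun l hl1 hl2 => ?_
    by_cases hcl : m < l + 4 ∧ l < m + 4
    · rw [cm_eq_one (hcomm m l (by exact_mod_cast hcl.1) (by exact_mod_cast hcl.2))]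
      exact one_mem _
    · obtain ⟨rfl, rfl⟩ | ⟨rfl, rfl⟩ | ⟨rfl, rfl⟩ | ⟨rfl, rfl⟩ :
          (m = 0 ∧ l = 4) ∨ (m = 5 ∧ l = 1) ∨ (m = 6 ∧ l = 1) ∨ (m = 6 ∧ l = 2) := by omega
      · exact seg_mono (by omega) (by omega) c1
      · rw [cm_swap]; exact inv_mem (seg_mono (by omega) (by omega) (cm_mem_shift hsh c2 1))
      · rw [cm_swap]; exact inv_mem (seg_mono (by omega) (by omega) (cm_mem_shift hsh hd 1))
      · rw [cm_swap]; exact inv_mem (seg_mono (by omega) (by omega) (cm_mem_shift hsh c2 2))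
  have hh : ∀ {R : Subgroup G}, H ≤ normalizer (R : Set G) → MulAut.conj F.h • R = R := fun hR =>
    smul_eq_of_mem_normalizer (hR F.hH)
  
  have hV1 : MulAut.conj F.h • (MulAut.conj y • seg x 1 5) = seg x 2 6 := by rw [hx]; exact F.smul_seg 1 5
  obtain ⟨R, hR⟩ : ∃ R, R = MulAut.conj y • seg x 1 5 := ⟨_, rfl⟩
  rw [← hR] at hV1
  have h25 : seg x 2 5 ≤ R := by
    have h := F.smul_seg 1 4
    rw [← hx] at h
    norm_num at h
    rw [hR]
    have e : MulAut.conj y • seg x 1 4 = seg x 2 5 :=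
      smul_left_cancel (MulAut.conj F.h) (by rw [h, hh (hnorm 2 5 (Or.inr rfl) rfl)])
    exact e ▸ smul_mono _ (seg_mono le_rfl (by norm_num))
  have hV5P : seg x 1 5 ≤ P := hsP ▸ seg_mono (by norm_num) (by norm_num)
  have hPR : P ≤ normalizer (R : Set G) := by
    intro g hg
    rw [← hyN] at hg
    obtain ⟨q, hq, rfl⟩ := (Subgroup.mem_smul_pointwise_iff_exists g _ P).1 hg
    refine mem_normalizer_of_smul ?_
    have e : MulAut.conj (MulAut.conj y • q) = MulAut.conj y * MulAut.conj q * (MulAut.conj y)⁻¹ := by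
      ext z; simp [MulAut.smul_def, mul_assoc]
    have hqH : q ∈ H := hsH ▸ seg_mono le_rfl (by norm_num) (hsP.ge hq)
    rw [e, hR, mul_smul, mul_smul, inv_smul_smul, smul_eq_of_mem_normalizer (hnorm 1 5 (Or.inl rfl) rfl hqH)]
  have hRle : R ≤ seg x 1 6 := by
    have hQn : H ≤ normalizer (seg x 1 6 : Set G) := by
      rw [← hsH]
      refine seg_le_iff.2 fun m hm1 hm2 => mem_normalizer_seg hch (by norm_num) fun l hl1 hl2 => ?_
      have hmem : x m * x l * (x m)⁻¹ * (x l)⁻¹ ∈ seg x 1 6 := by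
        refine mul_mem ?_ (inv_mem (mem_seg hl1 hl2))
        rcases lt_or_ge m 6 with hm | hm
        · exact hch.conj_mem (i' := 0) (j' := 6) (by norm_num) (by norm_num) le_rfl (by norm_num) (by norm_num)
            (mem_seg hm1 hm) (mem_seg hl1 hl2)
        · exact hch.conj_mem (i' := 1) (j' := 7) (by norm_num) le_rfl (by norm_num) (by norm_num) (by norm_num)
            (mem_seg (by omega) hm2) (mem_seg hl1 hl2)
      exact hmem
    refine Subgroup.pointwise_smul_le_pointwise_smul_iff (a := MulAut.conj F.h).1 ?_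
    rw [hV1, hh hQn]
    exact seg_mono (by norm_num) le_rfl
  have hRne : ¬ R ≤ seg x 1 5 := fun hle => ne_one hch (by norm_num) 1 (Subgroup.mem_bot.1 (by
    rw [← hy (seg x 1 5) (seg x 1 5) hV5P hV5P (subgroupOf_normal (hnorm 1 5 (Or.inl rfl) rfl))
      (subgroupOf_normal (hnorm 1 5 (Or.inl rfl) rfl))
      (hR ▸ Subgroup.eq_of_le_of_card_ge hle (by rw [hR, card_smul]))]
    exact mem_seg le_rfl (by norm_num)))
  obtain ⟨u, hu, huV⟩ := SetLike.not_le_iff_exists.1 hRne
  have hidx : (seg x 1 5).relIndex (seg x 1 6) = 2 := by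
    have h1 := Subgroup.index_mul_card ((seg x 1 5).subgroupOf (seg x 1 6))
    rw [Nat.card_congr (subgroupOfEquivOfLe (seg_mono le_rfl (by norm_num))).toEquiv,
      card_step hch (i := 1) (j := 5) (i' := 1) (j' := 6) (by norm_num) (by norm_num) (by norm_num),
      mul_left_inj' Nat.card_pos.ne'] at h1
    exact h1
  have h5not : x 5 ∉ seg x 1 5 := fun h5 => hne (by
    have h15 : Commute (x 1) (x 5) := by
      have hab : ∀ m n : ℤ, 1 ≤ m → m < 5 → 1 ≤ n → n < 5 → Commute (x m) (x n) := fun m n _ _ _ _ =>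
        hcomm m n (by omega) (by omega)
      exact commute_seg hab (mem_seg le_rfl (by norm_num)) h5
    have h04 := hch.shift 1 5 (-1) h15
    exact h04)
  have hv : u * x 5 ∈ seg x 1 5 :=
    (Subgroup.mul_mem_iff_of_index_two hidx (a := (⟨u, hRle hu⟩ : seg x 1 6))
      (b := ⟨x 5, mem_seg (by norm_num) (by norm_num)⟩)).2 (iff_of_false (fun hh => huV hh) (fun hh => h5not hh))
  obtain ⟨v, hve⟩ : ∃ v, v = u * x 5 := ⟨_, rfl⟩
  rw [← hve] at hv
  have huv : u = v * x 5 := by rw [hve, mul_assoc, hi, mul_one]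
  have hab : ∀ m n : ℤ, 1 ≤ m → m < 5 → 1 ≤ n → n < 5 → Commute (x m) (x n) := fun m n _ _ _ _ =>
    hcomm m n (by omega) (by omega)
  have hu2 : u * u = 1 := by
    obtain ⟨w, hw, rfl⟩ := (Subgroup.mem_smul_pointwise_iff_exists u _ _).1 (hR ▸ hu)
    rw [← smul_mul', sq_seg hch (by norm_num) hab hw, smul_one]
  have hcv : x 5 * v = v * x 5 := by
    have h1 := inv_eq_of_mul_eq_one_left hu2
    rwa [huv, mul_inv_rev, inv_eq_of_mul_eq_one_left (hi 5), inv_eq_of_mul_eq_one_left (sq_seg hch (by norm_num) hab hv)]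
      at h1
  have heq := eq_of_between (A := seg x 2 5) (M := seg x 1 5 ⊓ centralizer {x 5}) (B := seg x 1 5)
    (le_inf (seg_mono (by norm_num) le_rfl) (seg_le_iff.2 fun l h1 h2 =>
      mem_centralizer_singleton_iff.2 (hcomm l 5 (by omega) (by omega)).eq)) inf_le_left
    (fun hle => hne (by
      have h15 : Commute (x 1) (x 5) :=
        mem_centralizer_singleton_iff.1 (hle (mem_seg (x := x) (l := 1) le_rfl (by norm_num))).2
      exact hch.shift 1 5 (-1) h15))
    (card_step hch (by norm_num) (by norm_num) (by norm_num))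
  have h5R : x 5 ∈ R := by
    have hv25 : v ∈ seg x 2 5 := heq.le ⟨hv, mem_centralizer_singleton_iff.2 hcv.symm⟩
    have := mul_mem (inv_mem (h25 hv25)) hu
    rwa [huv, inv_mul_cancel_left] at this
  have hR26 : seg x 2 6 = R := by
    refine Subgroup.eq_of_le_of_card_ge (seg_le_iff.2 fun l h1 h2 => ?_) (by
      rw [hR, card_smul, hch.card' (by norm_num) (by norm_num), hch.card' (by norm_num) (by norm_num)]
      exact le_rfl)
    rcases lt_or_ge l 5 with h | h
    · exact h25 (mem_seg h1 h)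
    · rw [show l = 5 by omega]; exact h5R
  have hHR : H ≤ normalizer (R : Set G) := by
    have hhR : F.h ∈ normalizer (R : Set G) := mem_normalizer_of_smul (hV1.trans hR26)
    rw [← F.sup_eq]
    refine sup_le hPR fun g hg => ?_
    obtain ⟨q, hq, rfl⟩ := (Subgroup.mem_smul_pointwise_iff_exists g _ P).1 hg
    rw [MulAut.smul_def, MulAut.conj_apply]
    exact mul_mem (mul_mem hhR (hPR hq)) (inv_mem hhR)
  refine ne_one hch (by norm_num) 1 (Subgroup.mem_bot.1 ?_)
  rw [← hy (seg x 1 5) R hV5P (hyN ▸ hR ▸ smul_mono _ hV5P) (subgroupOf_normal (hnorm 1 5 (Or.inl rfl) rfl))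
    (subgroupOf_normal hHR) hR.symm]
  exact mem_seg le_rfl (by norm_num)

end CfsgLib.PGroup.IndexChain.TwoDihedral
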