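/-
Groups whose Sylow 2-subgroup has an elementary abelian normal subgroup of index 2, with four group on top.
-/
import Cfsg.Agent.Lib.PGroup.Basic
import Cfsg.Agent.Lib.Char.Zassenhaus.SixTypes
import Mathlib.GroupTheory.Transfer
import Mathlib.GroupTheory.SpecificGroups.KleinFour

set_option autoImplicit false

namespace CfsgLib.PGroup.IndexChain.TwoDihedral

open Subgroup

universe u

variable {X : Type u} [Group X] [Finite X]

theorem eq_one_of_odd_of_two {A : Type*} [Group A] (hA : IsPGroup 2 A) (f : X →* A) {g : X}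
    (hg : Odd (orderOf g)) : f g = 1 := by
  obtain ⟨k, hk⟩ := hA (f g)
  have h1 : orderOf (f g) ∣ 2 ^ k := orderOf_dvd_of_pow_eq_one hk
  have h2 : orderOf (f g) ∣ orderOf g := orderOf_map_dvd f g
  exact orderOf_eq_one_iff.1 (Nat.eq_one_of_dvd_coprimes
    (Nat.Coprime.pow_left k (Nat.coprime_two_left.2 hg)) h1 h2)

theorem klein_sq (b : Multiplicative (ZMod 2) × Multiplicative (ZMod 2)) : b ^ 2 = 1 := by
  revert b; decide

theorem odd_of_coprime_card {M : Subgroup X} (hM : (Nat.card M).Coprime 2) {g : X} (hg : g ∈ M) :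
    Odd (orderOf g) :=
  (Nat.coprime_two_right.1 hM).of_dvd_nat (orderOf_coe (⟨g, hg⟩ : M) ▸ orderOf_dvd_natCard _)

theorem oddCore_eq {M : Subgroup X} (hn : M.Normal) (hM : (Nat.card M).Coprime 2)
    (h : ∀ g ∈ Cfsg.oddCore X, Odd (orderOf g) → g ∈ M) : Cfsg.oddCore X = M :=
  le_antisymm (fun g hg => h g hg (odd_of_coprime_card (card_pPrimeCore_coprime 2) hg)) (le_sSup ⟨hn, hM⟩)

/-- An element of a group acting through a quotient of odd order, whose square is trivial there. -/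
theorem mem_of_sq_mem {C K : Subgroup X} (hn : (C.subgroupOf K).Normal) (hodd : ¬ 2 ∣ C.relIndex K) {g : X}
    (hg : g ∈ K) (hg2 : g * g ∈ C) : g ∈ C := by
  haveI := hn
  have h1 : g ^ C.relIndex K ∈ C := (C.subgroupOf K).pow_index_mem (⟨g, hg⟩ : K)
  obtain ⟨j, hj⟩ : Odd (C.relIndex K) := Nat.odd_iff.2 (Nat.two_dvd_ne_zero.1 hodd)
  rw [hj, pow_succ, pow_mul, sq] at h1
  exact (C.mul_mem_cancel_left (pow_mem hg2 j)).1 h1

theorem mem_or_mem_of_relIndex {A B : Subgroup X} (h : A.relIndex B = 2) {a b : X} (ha : a ∈ B) (hb : b ∈ B)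
    (ha' : a ∉ A) (hb' : b ∉ A) : a * b ∈ A :=
  (Subgroup.mul_mem_iff_of_index_two h (a := (⟨a, ha⟩ : B)) (b := ⟨b, hb⟩)).2
    (iff_of_false (fun hh => ha' hh) (fun hh => hb' hh))

theorem relIndex_eq_two {A B : Subgroup X} (hAB : A ≤ B) (h : Nat.card B = 2 * Nat.card A) :
    A.relIndex B = 2 := by
  have h1 := Subgroup.index_mul_card (A.subgroupOf B)
  rw [Nat.card_congr (subgroupOfEquivOfLe hAB).toEquiv, h, mul_left_inj' Nat.card_pos.ne'] at h1
  exact h1

/-- A central subgroup of a Sylow subgroup with a complementary index two subgroup splits off. -/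
theorem exists_hom_ne_one (P : Subgroup X) (hP : ¬ 2 ∣ P.index) {z : X} (hzP : z ∈ P) (hzc : z ∈ center X)
    (hz2 : z * z = 1) (M₀ : Subgroup X) (hz : z ∉ M₀) (hsplit : ∀ p ∈ P, p ∈ M₀ ∨ p * z ∈ M₀) :
    ∃ ψ : X →* Multiplicative (ZMod 2), ψ z ≠ 1 := by
  classical
  have hidx : (M₀.subgroupOf P).index = 2 := by
    refine index_eq_two_iff.2 ⟨⟨z, hzP⟩, fun b => ?_⟩
    simp only [mem_subgroupOf, Subgroup.coe_mul]
    rcases hsplit b b.2 with h | h
    · exact Or.inr ⟨h, fun h' => hz ((M₀.mul_mem_cancel_left h).1 h')⟩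
    · exact Or.inl ⟨h, fun h' => hz ((M₀.mul_mem_cancel_left h').1 h)⟩
  let ϕ : P →* Multiplicative (ZMod 2) :=
    MonoidHom.mk' (fun p => if (p : X) ∈ M₀ then 1 else Multiplicative.ofAdd 1) fun a b => by
      have h := Subgroup.mul_mem_iff_of_index_two hidx (a := a) (b := b)
      simp only [mem_subgroupOf, Subgroup.coe_mul] at h
      by_cases h1 : (a : X) ∈ M₀ <;> by_cases h2 : (b : X) ∈ M₀ <;>
        simp [Subgroup.coe_mul, h, h1, h2] <;> decide
  refine ⟨MonoidHom.transfer ϕ, ?_⟩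
  rw [MonoidHom.transfer_eq_pow ϕ z fun k g₀ _ => by
    rw [mul_assoc, ← mem_center_iff.1 (pow_mem hzc k) g₀, inv_mul_cancel_left]]
  have hne : z ^ P.index ∉ M₀ := by
    obtain ⟨j, hj⟩ : Odd P.index := Nat.odd_iff.2 (Nat.two_dvd_ne_zero.1 hP)
    rwa [hj, pow_succ, pow_mul, sq, hz2, one_pow, one_mul]
  simp [ϕ, hne]

/-- The structure forced by a noncentral four group on top. -/
theorem four_quotient (P Q W : Subgroup X) [Q.Normal] (hP2 : IsPGroup 2 P) (hP : ¬ 2 ∣ P.index) (hQP : Q ≤ P)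
    (hWQ : W ≤ Q) (hWc : W ≤ center X) (hQ2 : ∀ a ∈ Q, a * a = 1) (hcard : Nat.card Q = 4 * Nat.card W)
    (hPQ : Nat.card P = 2 * Nat.card Q) (x₀ q : X) (hx₀ : x₀ ∈ P) (hq : q ∈ Q)
    (hne : x₀ * q * x₀⁻¹ * q⁻¹ ∉ W) (g p : X) (hp : p ∈ P) (hgp : g * p * g⁻¹ ∉ Q)
    (hgpq : g * p * g⁻¹ * q * (g * p * g⁻¹)⁻¹ * q⁻¹ ∈ W) :
    ∃ M : Subgroup X, M.Normal ∧ (Nat.card M).Coprime 2 ∧ Cfsg.oddCore X = M ∧
      ∃ π : X →* Equiv.Perm (Fin 4), Function.Surjective π ∧ π.ker = W ⊔ M := by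
  classical
  haveI : Fact (Nat.Prime 2) := ⟨Nat.prime_two⟩
  have hcomm : ∀ a ∈ Q, ∀ b ∈ Q, a * b = b * a := fun a ha b hb => by
    have h1 := inv_eq_of_mul_eq_one_left (hQ2 _ (mul_mem ha hb))
    rw [mul_inv_rev, inv_eq_of_mul_eq_one_left (hQ2 a ha), inv_eq_of_mul_eq_one_left (hQ2 b hb)] at h1
    exact h1.symm
  have hidx2 : Q.relIndex P = 2 := relIndex_eq_two hQP hPQ
  haveI hWn : W.Normal := ⟨fun a ha g => by rwa [mem_center_iff.1 (hWc ha) g, mul_inv_cancel_right]⟩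
  have hx₀Q : x₀ ∉ Q := fun h => hne (by rw [hcomm x₀ h q hq, mul_inv_cancel_right, mul_inv_cancel]; exact W.one_mem)
  -- elements of `P` outside `Q` act as `x₀`
  have hout : ∀ r ∈ P, r ∉ Q → r * q * r⁻¹ = x₀ * q * x₀⁻¹ := by
    intro r hr hrQ
    have hu : x₀⁻¹ * r ∈ Q := mem_or_mem_of_relIndex hidx2 (inv_mem hx₀) hr (fun h => hx₀Q (inv_mem_iff.1 h)) hrQ
    calc r * q * r⁻¹ = x₀ * ((x₀⁻¹ * r) * q * (x₀⁻¹ * r)⁻¹) * x₀⁻¹ := by group
      _ = x₀ * q * x₀⁻¹ := by rw [hcomm _ hu q hq, mul_inv_cancel_right]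
  obtain ⟨C, hC⟩ : ∃ C, C = centralizer (Q : Set X) := ⟨_, rfl⟩
  obtain ⟨K, hK⟩ : ∃ K, K = (centralizer ((Q.map (QuotientGroup.mk' W) : Subgroup (X ⧸ W)) : Set (X ⧸ W))).comap
      (QuotientGroup.mk' W) := ⟨_, rfl⟩
  haveI hCn : C.Normal := hC ▸ inferInstance
  haveI : (Q.map (QuotientGroup.mk' W)).Normal := Subgroup.Normal.map inferInstance _ (QuotientGroup.mk'_surjective W)
  haveI hKn : K.Normal := hK ▸ inferInstance
  have hKmem : ∀ g, g ∈ K ↔ ∀ a ∈ Q, g * a * g⁻¹ * a⁻¹ ∈ W := by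
    intro g
    simp only [hK, mem_comap, mem_centralizer_iff, SetLike.mem_coe, Subgroup.mem_map, forall_exists_index, and_imp,
      forall_apply_eq_imp_iff₂]
    refine forall₂_congr fun a _ => ?_
    rw [eq_comm, ← mul_inv_eq_iff_eq_mul, ← mul_inv_eq_one, ← map_mul, ← map_inv, ← map_mul, ← map_inv, ← map_mul,
      QuotientGroup.mk'_apply, QuotientGroup.eq_one_iff]
  have hQC : Q ≤ C := hC ▸ fun a ha => mem_centralizer_iff.2 fun b hb => hcomm b hb a ha
  have hCK : C ≤ K := fun g hg => (hKmem g).2 fun a ha => by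
    rw [← mem_centralizer_iff.1 (hC ▸ hg) a ha, mul_inv_cancel_right, mul_inv_cancel]; exact W.one_mem
  have hPK : ∀ r ∈ P, r ∈ K → r ∈ Q := fun r hr hrK => by
    by_contra hrQ
    have := (hKmem r).1 hrK q hq
    rw [hout r hr hrQ] at this
    exact hne this
  have hQodd : ∀ L : Subgroup X, L.Normal → Q ≤ L → L ≤ K → ¬ 2 ∣ Q.relIndex L := by
    intro L hLn hQL hLK
    haveI := hLn
    have e : P ⊓ L = Q := le_antisymm (fun r hr => hPK r hr.1 (hLK hr.2)) (le_inf hQP hQL)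
    rw [← e, inf_relIndex_right]
    exact fun h => hP (h.trans (relIndex_dvd_index_normal_right P L))
  -- `K` centralises `Q`
  have hKC : K ≤ C := fun g hg => by
    refine mem_of_sq_mem inferInstance (fun h => hQodd K hKn (hQC.trans hCK) le_rfl
      (h.trans (relIndex_dvd_of_le_left K hQC))) hg ?_
    rw [hC, mem_centralizer_iff]
    intro a ha
    obtain ⟨w, hw, e⟩ : ∃ w ∈ W, g * a * g⁻¹ = w * a := ⟨_, (hKmem g).1 hg a ha, by group⟩
    have hwc := mem_center_iff.1 (hWc hw)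
    have e2 : g * g * a * (g * g)⁻¹ = a := by
      calc g * g * a * (g * g)⁻¹ = g * (g * a * g⁻¹) * g⁻¹ := by group
        _ = (g * w) * a * g⁻¹ := by rw [e]; group
        _ = w * (g * a * g⁻¹) := by rw [hwc g]; group
        _ = a := by rw [e, ← mul_assoc, hQ2 w (hWQ hw), one_mul]
    exact (mul_inv_eq_iff_eq_mul.1 e2).symm
  -- the odd complement of `Q` in `C`
  have hQs : IsPGroup 2 (Q.subgroupOf C) := (hP2.to_le hQP).comap_of_injective C.subtype C.subtype_injective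
  let T : Sylow 2 C := hQs.toSylow (hQodd C hCn hQC hCK)
  have hT : normalizer (T : Set C) ≤ centralizer (T : Set C) := fun c _ => mem_centralizer_iff.2 fun b hb =>
    Subtype.ext (mem_centralizer_iff.1 (show (c : X) ∈ centralizer (Q : Set X) from hC ▸ c.2) (b : X) hb)
  obtain ⟨M', hM'⟩ : ∃ M', M' = (MonoidHom.transferSylow T hT).ker := ⟨_, rfl⟩
  have hcompl : IsComplement' M' (Q.subgroupOf C) := hM' ▸ MonoidHom.ker_transferSylow_isComplement' T hT
  obtain ⟨M, hM⟩ : ∃ M, M = M'.map C.subtype := ⟨_, rfl⟩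
  have hMC : M ≤ C := hM ▸ map_subtype_le M'
  have hMcard : (Nat.card M).Coprime 2 := by
    rw [hM, card_map_of_injective C.subtype_injective, hM', Nat.coprime_comm]
    exact Nat.prime_two.coprime_iff_not_dvd.2 (MonoidHom.not_dvd_card_ker_transferSylow T hT)
  have hMmem : ∀ c ∈ C, Odd (orderOf c) → c ∈ M := fun c hc ho => hM ▸ ⟨⟨c, hc⟩, by
    rw [hM']
    exact MonoidHom.mem_ker.2 (eq_one_of_odd_of_two T.2 _ (by rwa [← Subgroup.orderOf_coe]))
    , rfl⟩
  haveI hMn : M.Normal := ⟨fun m hm g => hMmem _ (hCn.conj_mem m (hMC hm) g) (by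
    have hso : SemiconjBy g m (g * m * g⁻¹) := by simp [SemiconjBy, mul_assoc]
    rw [← hso.orderOf_eq]
    exact odd_of_coprime_card hMcard hm)⟩
  have hQ2' : ∀ a ∈ Q, Odd (orderOf a) → a = 1 := fun a ha ⟨k, hk⟩ => by
    have := pow_orderOf_eq_one a
    rwa [hk, pow_succ, pow_mul, sq, hQ2 a ha, one_pow, one_mul] at this
  have hQM : Q ⊓ M = ⊥ := eq_bot_iff.2 fun a ha => Subgroup.mem_bot.2 (hQ2' a ha.1 (odd_of_coprime_card hMcard ha.2))
  have hCQM : C ≤ Q ⊔ M := fun c hc => by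
    obtain ⟨⟨⟨m, hm⟩, ⟨r, hr⟩⟩, e⟩ := hcompl.2 ⟨c, hc⟩
    rw [show c = (m : X) * (r : X) from (congrArg Subtype.val e).symm]
    exact mul_mem (mem_sup_right (hM ▸ ⟨m, hm, rfl⟩)) (mem_sup_left hr)
  have hcore : Cfsg.oddCore X = M := oddCore_eq hMn hMcard fun g hg ho => hMmem g (hC ▸ mem_centralizer_iff.2 fun a ha => by
    refine (Subgroup.commute_of_normal_of_disjoint Q (Cfsg.oddCore X) inferInstance ?_ ?_ a g ha hg).eq
    · exact Subgroup.sSup_normal _ fun _ h => h.1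
    · refine disjoint_iff.2 (eq_bot_iff.2 fun b hb => Subgroup.mem_bot.2 ?_)
      exact hQ2' b hb.1 (odd_of_coprime_card (card_pPrimeCore_coprime 2) hb.2)) ho
  refine ⟨M, hMn, hMcard, hcore, ?_⟩
  obtain ⟨N, hN⟩ : ∃ N, N = W ⊔ M := ⟨_, rfl⟩
  haveI hNn : N.Normal := hN ▸ inferInstance
  have hNC : N ≤ C := hN ▸ sup_le (hWQ.trans hQC) hMC
  have hNQ : ∀ a ∈ Q, a ∈ N → a ∈ W := by
    intro a ha haN
    obtain ⟨w, hw, m, hm, rfl⟩ := mem_sup_of_normal_right.1 (hN ▸ haN)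
    have hmQ : m ∈ Q ⊓ M := ⟨(Q.mul_mem_cancel_left (hWQ hw)).1 ha, hm⟩
    rw [hQM, Subgroup.mem_bot] at hmQ
    rwa [hmQ, mul_one]
  let f := QuotientGroup.mk' N
  obtain ⟨V, hV⟩ : ∃ V, V = Q.map f := ⟨_, rfl⟩
  haveI : V.Normal := hV ▸ Subgroup.Normal.map inferInstance _ (QuotientGroup.mk'_surjective N)
  have hker : ∀ (A : Subgroup X), W ≤ A → (∀ a ∈ A, a ∈ N → a ∈ W) → Nat.card (A.map f) * Nat.card W = Nat.card A := by
    intro A hWA hA
    have e : (f.comp A.subtype).ker = W.subgroupOf A := by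
      ext a
      simp only [MonoidHom.mem_ker, MonoidHom.comp_apply, Subgroup.subtype_apply, f, QuotientGroup.mk'_apply,
        QuotientGroup.eq_one_iff, mem_subgroupOf]
      exact ⟨hA _ a.2, fun h => hN ▸ mem_sup_left h⟩
    have h := Subgroup.index_mul_card (f.comp A.subtype).ker
    rw [index_ker, MonoidHom.range_comp, Subgroup.range_subtype, e, Nat.card_congr (subgroupOfEquivOfLe hWA).toEquiv] at h
    exact h
  have hV4 : Nat.card V = 4 := by
    have h := hker Q hWQ hNQ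
    rw [← hV, hcard] at h
    exact mul_right_cancel₀ Nat.card_pos.ne' h
  have hV2 : ∀ v ∈ V, v * v = 1 := by
    rw [hV]; rintro _ ⟨a, ha, rfl⟩; rw [← map_mul, hQ2 a ha, map_one]
  have hVC : centralizer (V : Set (X ⧸ N)) ≤ V := by
    intro v hv
    obtain ⟨g, rfl⟩ := QuotientGroup.mk'_surjective N v
    have hgK : g ∈ K := (hKmem g).2 fun a ha => by
      refine hNQ _ (mul_mem (Subgroup.Normal.conj_mem inferInstance a ha g) (inv_mem ha)) ?_
      rw [← QuotientGroup.eq_one_iff, ← QuotientGroup.mk'_apply, map_mul, map_mul, map_mul, map_inv, map_inv,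
        ← mem_centralizer_iff.1 hv (f a) (hV ▸ mem_map_of_mem f ha), mul_inv_cancel_right, mul_inv_cancel]
    obtain ⟨a, ha, m, hm, rfl⟩ := mem_sup_of_normal_right.1 (hCQM (hKC hgK))
    rw [map_mul, (show f m = 1 from (QuotientGroup.eq_one_iff m).2 (hN ▸ mem_sup_right hm)), mul_one, hV]
    exact mem_map_of_mem f ha
  have hP8 : Nat.card (P.map f) = 8 := by
    have h := hker P (hWQ.trans hQP) fun a ha haN => hNQ a (hPK a ha (hCK (hNC haN))) haN
    rw [hPQ, hcard, ← mul_assoc] at h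
    exact mul_right_cancel₀ Nat.card_pos.ne' h
  have hnot : ¬ IsPGroup 2 (X ⧸ N) := by
    intro h2
    have htop : P ⊔ N = ⊤ := by
      refine Subgroup.index_eq_one.1 ?_
      obtain ⟨k, hk⟩ := h2.exists_card_eq
      exact Nat.eq_one_of_dvd_coprimes ((Nat.prime_two.coprime_iff_not_dvd.2 hP).pow_left k)
        (hk ▸ Subgroup.index_dvd_of_le (le_sup_right : N ≤ P ⊔ N)) (Subgroup.index_dvd_of_le le_sup_left)
    obtain ⟨r, hr, m, hm, e⟩ := mem_sup_of_normal_right.1 (htop.ge (mem_top (g * p * g⁻¹)))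
    have hmC := mem_centralizer_iff.1 (hC ▸ hNC hm : m ∈ centralizer (Q : Set X))
    by_cases hrQ : r ∈ Q
    · have hx : g * p * g⁻¹ ∈ C := e ▸ mul_mem (hQC hrQ) (hNC hm)
      have hpC : p ∈ C := by simpa [mul_assoc] using hCn.conj_mem _ hx g⁻¹
      exact hgp (Subgroup.Normal.conj_mem inferInstance p (hPK p hp (hCK hpC)) g)
    · refine hne ?_
      rw [← hout r hr hrQ]
      rw [← e, mul_inv_rev, show r * m * q * (m⁻¹ * r⁻¹) = r * (m * q * m⁻¹) * r⁻¹ by group, ← hmC q hq,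
        mul_inv_cancel_right] at hgpq
      exact hgpq
  rcases Char.Zassenhaus.equiv_of_self_centralizing_four V hV4 hV2 hVC hnot with ⟨⟨e⟩⟩ | ⟨⟨e⟩⟩
  · exact ⟨e.toMonoidHom.comp f, e.surjective.comp (QuotientGroup.mk'_surjective N), by
      refine Eq.trans ?_ ((QuotientGroup.ker_mk' N).trans hN)
      ext a
      simp [f]⟩
  · have h := Subgroup.card_subgroup_dvd_card (P.map f)
    rw [hP8, Nat.card_congr e.toEquiv, nat_card_alternatingGroup, Nat.card_fin] at h
    norm_num [Nat.factorial] at h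

/-- Burnside: a four group Sylow subgroup centralised by its normaliser. -/
theorem klein_quotient (P : Sylow 2 X) (hcard : Nat.card P = 4) (h2 : ∀ a ∈ (P : Subgroup X), a * a = 1)
    (hN : normalizer (P : Set X) ≤ centralizer (P : Set X)) :
    Nonempty (X ⧸ Cfsg.oddCore X ≃* Multiplicative (ZMod 2) × Multiplicative (ZMod 2)) := by
  classical
  haveI : Fact (Nat.Prime 2) := ⟨Nat.prime_two⟩
  let f := MonoidHom.transferSylow P hN
  have hcore : Cfsg.oddCore X = f.ker := oddCore_eq inferInstance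
    (Nat.coprime_comm.1 (Nat.prime_two.coprime_iff_not_dvd.2 (MonoidHom.not_dvd_card_ker_transferSylow P hN)))
    fun g _ ho => MonoidHom.mem_ker.2 (eq_one_of_odd_of_two P.2 f ho)
  have hsurj : Function.Surjective f := by
    intro a
    obtain ⟨b, hb⟩ := (P.2.powEquiv' P.not_dvd_index).surjective a
    exact ⟨b, (MonoidHom.transferSylow_eq_pow P hN b b.2).trans (Subtype.ext (by rw [← hb]; rfl))⟩
  haveI : IsKleinFour (P : Subgroup X) := ⟨hcard, by
    haveI : Nontrivial (P : Subgroup X) := Finite.one_lt_card_iff_nontrivial.1 (by rw [hcard]; norm_num)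
    exact (Monoid.exponent_eq_prime_iff Nat.prime_two).2 fun a ha => orderOf_eq_prime (by
      rw [sq]; exact Subtype.ext (h2 a a.2)) ha⟩
  haveI : IsKleinFour (Multiplicative (ZMod 2) × Multiplicative (ZMod 2)) := ⟨by simp [Nat.card_prod], by
    exact (Monoid.exponent_eq_prime_iff Nat.prime_two).2 fun a ha => orderOf_eq_prime (klein_sq a) ha⟩
  obtain ⟨e⟩ := IsKleinFour.nonempty_mulEquiv (G₁ := (P : Subgroup X))
    (G₂ := Multiplicative (ZMod 2) × Multiplicative (ZMod 2))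
  exact ⟨((QuotientGroup.quotientMulEquivOfEq hcore).trans (QuotientGroup.quotientKerEquivOfSurjective f hsurj)).trans e⟩

/-- Adjoining the split central involution. -/
theorem prod_quotient {A : Type*} [Group A] {M : Subgroup X} [M.Normal] (hM : (Nat.card M).Coprime 2) {z : X}
    (hz2 : z * z = 1) (π : X →* A) (hπ : Function.Surjective π) (hker : π.ker = zpowers z ⊔ M)
    (ψ : X →* Multiplicative (ZMod 2)) (hψ : ψ z ≠ 1) :
    Nonempty (X ⧸ M ≃* A × Multiplicative (ZMod 2)) := by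
  classical
  have h2 : IsPGroup 2 (Multiplicative (ZMod 2)) := IsPGroup.of_card (n := 1) (by simp)
  have hψM : ∀ m ∈ M, ψ m = 1 := fun m hm => eq_one_of_odd_of_two h2 ψ (odd_of_coprime_card hM hm)
  have hzker : π z = 1 := MonoidHom.mem_ker.1 (hker ▸ mem_sup_left (mem_zpowers z))
  let φ := π.prod ψ
  have hφ : φ.ker = M := by
    refine le_antisymm (fun g hg => ?_) (fun m hm => Prod.ext (MonoidHom.mem_ker.1 (hker ▸ mem_sup_right hm)) (hψM m hm))
    obtain ⟨h1, h2'⟩ := Prod.ext_iff.1 (MonoidHom.mem_ker.1 hg)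
    obtain ⟨w, hw, m, hm, rfl⟩ := mem_sup_of_normal_right.1 (hker ▸ MonoidHom.mem_ker.2 h1)
    obtain ⟨k, rfl⟩ := mem_zpowers_iff.1 hw
    have hψw : ψ (z ^ k * m) = 1 := h2'
    rw [map_mul, hψM m hm, mul_one] at hψw
    rcases Int.even_or_odd' k with ⟨j, rfl | rfl⟩
    · rwa [zpow_mul, zpow_two, hz2, one_zpow, one_mul]
    · rw [zpow_add_one, zpow_mul, zpow_two, hz2, one_zpow, one_mul] at hψw
      exact absurd hψw hψ
  have hsurj : Function.Surjective φ := by
    rintro ⟨a, b⟩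
    obtain ⟨g, rfl⟩ := hπ a
    by_cases h : ψ g = b
    · exact ⟨g, Prod.ext rfl h⟩
    · refine ⟨g * z, Prod.ext ?_ ?_⟩
      · show π (g * z) = π g
        rw [map_mul, hzker, mul_one]
      · show ψ (g * z) = b
        rw [map_mul]
        revert h hψ
        generalize ψ g = u
        generalize ψ z = v
        revert u v b
        decide
  exact ⟨(QuotientGroup.quotientMulEquivOfEq hφ.symm).trans (QuotientGroup.quotientKerEquivOfSurjective φ hsurj)⟩

end CfsgLib.PGroup.IndexChain.TwoDihedral
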