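/-
2-local subgroups with dihedral quotient and an outer automorphism of the Sylow subgroup: the shape.
-/
import Cfsg.Agent.Lib.PGroup.IndexChain.TwoDihedral.Four
import Cfsg.Agent.Lib.PGroup.IndexChain.TwoDihedral.Exclude

set_option autoImplicit false

namespace CfsgLib.PGroup.IndexChain.TwoDihedral

open Subgroup
open scoped Pointwise

variable {G : Type*} [Group G]

theorem mem_seg_two {x : ℤ → G} {i : ℤ} (h1 : x i * x i = 1) (h2 : x (i + 1) * x (i + 1) = 1)
    (hc : Commute (x i) (x (i + 1))) {g : G} (hg : g ∈ seg x i (i + 2)) :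
    g = 1 ∨ g = x i ∨ g = x (i + 1) ∨ g = x i * x (i + 1) := by
  have ha : ∀ b, x i * (x i * b) = b := fun b => by rw [← mul_assoc, h1, one_mul]
  have hb : ∀ b, x (i + 1) * (x (i + 1) * b) = b := fun b => by rw [← mul_assoc, h2, one_mul]
  have hba : ∀ b, x (i + 1) * (x i * b) = x i * (x (i + 1) * b) := fun b => by
    rw [← mul_assoc, ← hc.eq, mul_assoc]
  refine closure_induction (p := fun g _ => g = 1 ∨ g = x i ∨ g = x (i + 1) ∨ g = x i * x (i + 1)) ?_ (Or.inl rfl)
    (fun a b _ _ ia ib => ?_) (fun a _ ia => ?_) hg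
  · rintro _ ⟨l, ⟨hl1, hl2⟩, rfl⟩
    rcases show l = i ∨ l = i + 1 by omega with rfl | rfl <;> simp
  · rcases ia with rfl | rfl | rfl | rfl <;> rcases ib with rfl | rfl | rfl | rfl <;>
      simp [ha, hb, hba, hc.eq.symm, h1, h2, mul_assoc]
  · rcases ia with rfl | rfl | rfl | rfl <;>
      simp [inv_eq_of_mul_eq_one_left h1, inv_eq_of_mul_eq_one_left h2, hc.eq.symm]

open scoped commutatorElement in
theorem cm_mem_closure {S T : Set G} {W : Subgroup G} (hW : ∀ w ∈ W, ∀ g ∈ closure (S ∪ T), Commute w g)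
    (h : ∀ s ∈ S, ∀ u ∈ T, s * u * s⁻¹ * u⁻¹ ∈ W) {r q : G} (hr : r ∈ closure S) (hq : q ∈ closure T) :
    r * q * r⁻¹ * q⁻¹ ∈ W := by
  have inner : ∀ s ∈ S, s * q * s⁻¹ * q⁻¹ ∈ W := fun s hs => by
    refine closure_induction (p := fun b _ => s * b * s⁻¹ * b⁻¹ ∈ W) (h s hs) (by simp)
      (fun a b ha _ ia ib => ?_) (fun a ha ia => ?_) hq
    · have hc := hW _ ib a (closure_mono Set.subset_union_right ha)
      rw [show s * (a * b) * s⁻¹ * (a * b)⁻¹ = s * a * s⁻¹ * (s * b * s⁻¹ * b⁻¹) * a⁻¹ by group,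
        mul_assoc (s * a * s⁻¹), hc.inv_right.eq, ← mul_assoc]
      exact mul_mem ia ib
    · have hc := hW _ (inv_mem ia) a (closure_mono Set.subset_union_right ha)
      rw [show s * a⁻¹ * s⁻¹ * a⁻¹⁻¹ = a⁻¹ * (s * a * s⁻¹ * a⁻¹)⁻¹ * a by group, mul_assoc, hc.eq,
        inv_mul_cancel_left]
      exact inv_mem ia
  refine closure_induction (p := fun b _ => b * q * b⁻¹ * q⁻¹ ∈ W) inner (by simp)
    (fun a b ha _ ia ib => ?_) (fun a ha ia => ?_) hr
  · have hc := hW _ ib a (closure_mono Set.subset_union_left ha)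
    rw [show a * b * q * (a * b)⁻¹ * q⁻¹ = a * (b * q * b⁻¹ * q⁻¹) * a⁻¹ * (a * q * a⁻¹ * q⁻¹) by group,
      ← hc.eq, mul_inv_cancel_right]
    exact mul_mem ib ia
  · have hc := hW _ (inv_mem ia) a (closure_mono Set.subset_union_left ha)
    rw [show a⁻¹ * q * a⁻¹⁻¹ * q⁻¹ = a⁻¹ * (a * q * a⁻¹ * q⁻¹)⁻¹ * a by group, mul_assoc, hc.eq,
      inv_mul_cancel_left]
    exact inv_mem ia

theorem not_mem_top {t : ℕ} {x : ℤ → G} (h : IsChain 2 t x) {i j : ℤ} (hij : i ≤ j) (hlen : j + 1 ≤ i + t) :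
    x j ∉ seg x i j := fun hm => by
  haveI : Fact (Nat.Prime 2) := ⟨Nat.prime_two⟩
  haveI := h.finite (i := i) (j := j) (by omega)
  have hle : seg x i (j + 1) ≤ seg x i j := seg_le_iff.2 fun l h1 h2 => by
    rcases lt_or_ge l j with hl | hl
    · exact mem_seg h1 hl
    · rw [show l = j by omega]; exact hm
  have := Subgroup.card_le_of_le hle
  rw [h.card' (by omega) hlen, h.card' hij (by omega), Nat.pow_le_pow_iff_right (by norm_num)] at this
  omega

theorem not_mem_bot {t : ℕ} {x : ℤ → G} (h : IsChain 2 t x) {i j : ℤ} (hij : i < j) (hlen : j ≤ i + t) :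
    x i ∉ seg x (i + 1) j := fun hm => by
  haveI : Fact (Nat.Prime 2) := ⟨Nat.prime_two⟩
  haveI := h.finite (i := i + 1) (j := j) (by omega)
  have hle : seg x i j ≤ seg x (i + 1) j := seg_le_iff.2 fun l h1 h2 => by
    rcases eq_or_lt_of_le h1 with rfl | hl
    · exact hm
    · exact mem_seg (by omega) h2
  have := Subgroup.card_le_of_le hle
  rw [h.card' hij.le hlen, h.card' (by omega) (by omega), Nat.pow_le_pow_iff_right (by norm_num)] at this
  omega

variable [Finite G] {H P : Subgroup G} {y : G}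

theorem Frame.mem_pCore_iff (F : Frame H P y ((Cfsg.pCore 2 ↥H).map H.subtype)) (g : H) :
    g ∈ Cfsg.pCore 2 ↥H ↔ (g : G) ∈ seg F.x 1 F.t := by
  rw [F.segQ, ← Subgroup.mem_map_iff_mem (f := H.subtype) H.subtype_injective]
  rfl

/-- The case of two windows. -/
theorem Frame.two_shape (F : Frame H P y ((Cfsg.pCore 2 ↥H).map H.subtype)) (hPH : P ≤ H)
    (hP : IsPGroup 2 P) (hPsyl : ¬ 2 ∣ P.relIndex H) (ht : F.t = 2)
    (hcomm : ∀ i j : ℤ, i < j + 2 → j < i + 2 → Commute (F.x i) (F.x j)) :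
    Nat.card P = 4 ∧ (∀ a ∈ P, ∀ b ∈ P, Commute a b) ∧
      Nonempty (↥H ⧸ Cfsg.oddCore ↥H ≃* Multiplicative (ZMod 2) × Multiplicative (ZMod 2)) := by
  haveI : Fact (Nat.Prime 2) := ⟨Nat.prime_two⟩
  obtain ⟨x, hx⟩ : ∃ x, x = F.x := ⟨_, rfl⟩
  have hch := F.chain
  have hsP := F.segP
  have hsH := F.segH
  rw [ht] at hch hsP hsH
  rw [← hx] at hch hsP hsH hcomm
  have hab : ∀ m n : ℤ, 0 ≤ m → m < 2 → 0 ≤ n → n < 2 → Commute (x m) (x n) := fun m n _ _ _ _ =>
    hcomm m n (by omega) (by omega)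
  have hi := mul_self_eq_one hch (by norm_num)
  have h4 : Nat.card P = 4 := by rw [← hsP]; exact hch.card' (i := 0) (j := 2) (by norm_num) (by norm_num)
  have hPc : ∀ a ∈ P, ∀ b ∈ P, Commute a b := fun a ha b hb => commute_seg hab (hsP.ge ha) (hsP.ge hb)
  refine ⟨h4, hPc, ?_⟩
  let T : Sylow 2 H := (hP.comap_of_injective H.subtype H.subtype_injective).toSylow hPsyl
  refine klein_quotient T ((Nat.card_congr (subgroupOfEquivOfLe hPH).toEquiv).trans h4)
    (fun a ha => Subtype.ext (sq_seg hch (by norm_num) hab (hsP.ge ha))) ?_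
  obtain ⟨T', hT'⟩ : ∃ T', T' = P.subgroupOf H := ⟨_, rfl⟩
  show normalizer ((P.subgroupOf H : Subgroup H) : Set H) ≤ centralizer ((P.subgroupOf H : Subgroup H) : Set H)
  rw [← hT']
  intro g hg
  have hcn : ((centralizer (T' : Set H)).subgroupOf (normalizer (T' : Set H))).Normal := subgroupOf_normal fun n hn => by
    refine mem_normalizer_of_smul ?_
    conv_rhs => rw [← smul_eq_of_mem_normalizer hn]
    ext a
    simp only [Subgroup.mem_pointwise_smul_iff_inv_smul_mem, mem_centralizer_iff, MulAut.smul_def,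
      MulAut.conj_inv_apply, SetLike.mem_coe, Subgroup.coe_pointwise_smul]
    constructor
    · intro h b hb
      rw [Set.mem_smul_set_iff_inv_smul_mem] at hb
      have := h _ hb
      simp only [MulAut.smul_def, MulAut.conj_inv_apply] at this
      calc b * a = n * ((n⁻¹ * b * n) * (n⁻¹ * a * n)) * n⁻¹ := by group
        _ = a * b := by rw [this]; group
    · intro h b hb
      have := h (n * b * n⁻¹) (Set.mem_smul_set.2 ⟨b, hb, by simp [MulAut.smul_def]⟩)
      calc b * (n⁻¹ * a * n) = n⁻¹ * ((n * b * n⁻¹) * a) * n := by group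
        _ = (n⁻¹ * a * n) * b := by rw [this]; group
  have hTc : T' ≤ centralizer (T' : Set H) := fun a ha => mem_centralizer_iff.2 fun b hb => Subtype.ext
    (hPc b (hT' ▸ hb : b ∈ P.subgroupOf H) a (hT' ▸ ha : a ∈ P.subgroupOf H)).eq
  refine mem_of_sq_mem hcn (fun h => hPsyl ?_) hg (mem_centralizer_iff.2 fun b hb => ?_)
  · exact h.trans ((relIndex_dvd_of_le_left _ hTc).trans (hT' ▸ relIndex_dvd_index_of_le le_normalizer))
  · rw [hT'] at hb hg
    have hcen : ∀ w : G, w ∈ H → w * x 1 = x 1 * w := fun w hw =>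
      mem_centralizer_singleton_iff.1 ((seg_le_iff.2 fun m h1 h2 =>
        mem_centralizer_singleton_iff.2 (hcomm m 1 (by omega) (by omega)).eq : seg x 0 ((2 : ℕ) + 1) ≤ centralizer {x 1})
          (hsH.ge hw))
    have hg1 : (g : G) * x 1 * (g : G)⁻¹ = x 1 := by rw [hcen g g.2, mul_inv_cancel_right]
    have hpair : ∀ w ∈ P, w = 1 ∨ w = x 0 ∨ w = x 1 ∨ w = x 0 * x 1 := fun w hw =>
      mem_seg_two (i := 0) (hi 0) (hi _) (hab 0 _ le_rfl (by norm_num) (by norm_num) (by norm_num)) (hsP.ge hw)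
    have hx0 : (g : G) * (g : G) * x 0 * ((g : G) * (g : G))⁻¹ = x 0 := by
      have h0P : x 0 ∈ P := hsP.le (mem_seg le_rfl (by norm_num))
      have hm : (g : G) * x 0 * (g : G)⁻¹ ∈ P :=
        (mem_normalizer_iff.1 hg (⟨x 0, hPH h0P⟩ : H)).1 h0P
      rw [show (g : G) * g * x 0 * ((g : G) * g)⁻¹ = g * (g * x 0 * (g : G)⁻¹) * (g : G)⁻¹ by group]
      rcases hpair _ hm with h | h | h | h
      · exact absurd (by simpa using h) (ne_one hch (by norm_num) 0)
      · rw [h, h]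
      · refine absurd ?_ (not_mem_bot hch (i := 0) (j := 2) (by norm_num) (by norm_num))
        rw [show x 0 = x 1 by
          rw [mul_inv_eq_iff_eq_mul, ← hcen g g.2] at h
          exact mul_left_cancel h]
        exact mem_seg (by norm_num) (by norm_num)
      · rw [h, conj_mul_eq, h, hg1, mul_assoc, hi 1, mul_one]
    apply Subtype.ext
    show (b : G) * ((g : G) * g) = (g : G) * g * b
    have hx1 : (g : G) * g * x 1 * ((g : G) * g)⁻¹ = x 1 := by
      rw [show (g : G) * g * x 1 * ((g : G) * g)⁻¹ = g * (g * x 1 * (g : G)⁻¹) * (g : G)⁻¹ by group, hg1, hg1]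
    have hall : seg x 0 2 ≤ centralizer {(g : G) * g} := seg_le_iff.2 fun m h1 h2 => by
      rw [mem_centralizer_singleton_iff]
      rcases show m = 0 ∨ m = 1 by omega with rfl | rfl
      · exact (mul_inv_eq_iff_eq_mul.1 hx0).symm
      · exact (mul_inv_eq_iff_eq_mul.1 hx1).symm
    exact mem_centralizer_singleton_iff.1 (hall (hsP.ge hb))
where
  conj_mul_eq {a b g : G} : g * (a * b) * g⁻¹ = g * a * g⁻¹ * (g * b * g⁻¹) := by group

/-- The cases of three and four windows. -/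
theorem Frame.big_shape (F : Frame H P y ((Cfsg.pCore 2 ↥H).map H.subtype)) (hPH : P ≤ H) (hyN : MulAut.conj y • P = P)
    (hP : IsPGroup 2 P) (hPsyl : ¬ 2 ∣ P.relIndex H) {a : ℕ} (ht : F.t = a + 1) (ha : a = 2 ∨ a = 3)
    (hcomm : ∀ i j : ℤ, i < j + a → j < i + a → Commute (F.x i) (F.x j))
    (hne : ¬ Commute (F.x 0) (F.x a)) :
    (Nat.card P = 8 ∨ Nat.card P = 16) ∧ (Nonempty (↥H ⧸ Cfsg.oddCore ↥H ≃* Equiv.Perm (Fin 4)) ∨
      Nonempty (↥H ⧸ Cfsg.oddCore ↥H ≃* Equiv.Perm (Fin 4) × Multiplicative (ZMod 2))) := by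
  haveI : Fact (Nat.Prime 2) := ⟨Nat.prime_two⟩
  have hQmem := F.mem_pCore_iff
  obtain ⟨x, hx⟩ : ∃ x, x = F.x := ⟨_, rfl⟩
  have hch := F.chain
  have hsP := F.segP
  have hsH := F.segH
  have hsQ := F.segQ
  rw [ht] at hch hsP hsH hsQ hQmem
  rw [← hx] at hch hsP hsH hsQ hcomm hne hQmem
  push_cast at hsP hsH hsQ hQmem
  have ha2 : 2 ≤ a := by omega
  have hxH : ∀ l : ℤ, 0 ≤ l → l ≤ a + 1 → x l ∈ H := fun l h1 h2 => hsH.le (mem_seg h1 (by omega))
  have hi := mul_self_eq_one hch (by omega)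
  have hab : ∀ m n : ℤ, 1 ≤ m → m < a + 1 → 1 ≤ n → n < a + 1 → Commute (x m) (x n) := fun m n _ _ _ _ =>
    hcomm m n (by omega) (by omega)
  have hQle : Cfsg.pCore 2 ↥H ≤ P.subgroupOf H := fun g hg => mem_subgroupOf.2
    (hsP.le (seg_mono (by norm_num) le_rfl ((hQmem g).1 hg)))
  have hPcard : Nat.card P = 2 ^ (a + 1) := by
    rw [← hsP, hch.card' (by omega) (by omega)]; congr 1
  have hP'card : Nat.card (P.subgroupOf H) = 2 ^ (a + 1) :=
    (Nat.card_congr (subgroupOfEquivOfLe hPH).toEquiv).trans hPcard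
  have hQcard : Nat.card (Cfsg.pCore 2 ↥H) = 2 ^ a := by
    rw [← card_map_of_injective H.subtype_injective, ← hsQ, hch.card' (by omega) (by omega)]; congr 1; omega
  haveI : (Cfsg.pCore 2 ↥H).Normal := Subgroup.sSup_normal _ fun _ h => h.1
  have hP' : IsPGroup 2 (P.subgroupOf H) := hP.comap_of_injective H.subtype H.subtype_injective
  have hQ2 : ∀ u ∈ Cfsg.pCore 2 ↥H, u * u = 1 := fun u hu =>
    Subtype.ext (sq_seg hch (by omega) hab ((hQmem u).1 hu))
  have hpP : y * x a * y⁻¹ ∈ P := by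
    have h := Subgroup.smul_mem_pointwise_smul _ (MulAut.conj y) P (hsP.le (mem_seg (x := x) (l := a) (by omega) (by omega)))
    rwa [hyN, MulAut.smul_def, MulAut.conj_apply] at h
  have hxt : F.h * (y * x a * y⁻¹) * F.h⁻¹ = x (a + 1) := by rw [hx]; exact F.conj_x a
  have hgp : (⟨F.h, F.hH⟩ : H) * ⟨_, hPH hpP⟩ * (⟨F.h, F.hH⟩ : H)⁻¹ ∉ Cfsg.pCore 2 ↥H := fun hm => by
    have h1 : F.h * (y * x a * y⁻¹) * F.h⁻¹ ∈ seg x 1 (a + 1) := (hQmem _).1 hm
    rw [hxt] at h1
    exact not_mem_top hch (by omega) (by omega) h1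
  have hc1 : x 0 * x a * (x 0)⁻¹ * (x a)⁻¹ ≠ 1 := fun h => hne (by
    rw [mul_inv_eq_one, mul_inv_eq_iff_eq_mul] at h
    exact h)
  have hgpq : ∀ W : Subgroup H, (⟨F.h, F.hH⟩ : H) * ⟨_, hPH hpP⟩ * (⟨F.h, F.hH⟩ : H)⁻¹ * ⟨x a, hxH a (by omega) (by omega)⟩ *
      ((⟨F.h, F.hH⟩ : H) * ⟨_, hPH hpP⟩ * (⟨F.h, F.hH⟩ : H)⁻¹)⁻¹ * (⟨x a, hxH a (by omega) (by omega)⟩ : H)⁻¹ ∈ W := by
    intro W
    convert W.one_mem using 1
    apply Subtype.ext
    show F.h * (y * x a * y⁻¹) * F.h⁻¹ * x a * (F.h * (y * x a * y⁻¹) * F.h⁻¹)⁻¹ * (x a)⁻¹ = 1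
    rw [hxt]
    exact cm_eq_one (hcomm (a + 1) a (by omega) (by omega))
  rcases ha with rfl | rfl
  · -- three windows
    obtain ⟨M, hMn, -, hcore, π, hπ, hker⟩ := four_quotient (P.subgroupOf H) (Cfsg.pCore 2 ↥H) ⊥ hP' hPsyl hQle bot_le
      bot_le hQ2 (by rw [hQcard, Subgroup.card_bot]; rfl) (by rw [hP'card, hQcard]; rfl)
      ⟨x 0, hxH 0 le_rfl (by omega)⟩ ⟨x ((2 : ℕ) : ℤ), hxH _ (by omega) (by omega)⟩
      (mem_subgroupOf.2 (hsP.le (mem_seg le_rfl (by norm_num)))) ((hQmem _).2 (mem_seg (by norm_num) (by norm_num)))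
      (fun h => hc1 (congrArg Subtype.val (Subgroup.mem_bot.1 h))) _ _ (mem_subgroupOf.2 hpP) hgp (hgpq _)
    refine ⟨Or.inl hPcard, Or.inl ⟨(QuotientGroup.quotientMulEquivOfEq ?_).trans
      (QuotientGroup.quotientKerEquivOfSurjective π hπ)⟩⟩
    rw [hker, hcore, bot_sup_eq]
  · -- four windows
    push_cast at *
    norm_num at hsP hsH hsQ
    have h3 : cm x 0 3 ∈ seg x 1 3 := by
      have := hch.commutator_mem (i := 0) (j := 3) (by norm_num) (by norm_num)
      simpa [cm] using this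
    have hcen : ∀ w ∈ seg x 2 3, ∀ g ∈ seg x 0 5, Commute w g := fun w hw g hg => by
      have hl : seg x 2 3 ≤ centralizer {g} := seg_le_iff.2 fun m h1 h2 => by
        have hr : seg x 0 5 ≤ centralizer {x m} := seg_le_iff.2 fun l h3 h4 =>
          mem_centralizer_singleton_iff.2 (hcomm l m (by omega) (by omega)).eq
        exact mem_centralizer_singleton_iff.2 (mem_centralizer_singleton_iff.1 (hr hg)).symm
      exact mem_centralizer_singleton_iff.1 (hl hw)
    have hcW : cm x 0 3 ∉ seg x 2 3 := by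
      intro hc
      have hall : ∀ r ∈ seg x 0 4, ∀ q ∈ seg x 1 4, r * q * r⁻¹ * q⁻¹ ∈ seg x 2 3 := fun r hr q hq => by
        refine cm_mem_closure (fun w hw g hg => hcen w hw g ?_) ?_ hr hq
        · refine (Subgroup.closure_le (seg x 0 5)).2 ?_ hg
          rintro _ (⟨l, ⟨h1, h2⟩, rfl⟩ | ⟨l, ⟨h1, h2⟩, rfl⟩) <;> exact mem_seg (by omega) (by omega)
        · rintro _ ⟨m, ⟨hm1, hm2⟩, rfl⟩ _ ⟨l, ⟨hl1, hl2⟩, rfl⟩
          by_cases hcl : m = 0 ∧ l = 3
          · rw [hcl.1, hcl.2]; exact hc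
          · rw [show x m * x l * (x m)⁻¹ * (x l)⁻¹ = cm x m l from rfl,
              cm_eq_one (hcomm m l (by omega) (by omega))]
            exact one_mem _
      have hQh : F.h⁻¹ * x 1 * F.h ∈ seg x 1 4 := by
        have h1 : (⟨x 1, hxH 1 (by norm_num) (by norm_num)⟩ : H) ∈ Cfsg.pCore 2 ↥H :=
          (hQmem _).2 (mem_seg le_rfl (by norm_num))
        have h2 := Subgroup.Normal.conj_mem inferInstance _ h1 (⟨F.h, F.hH⟩ : H)⁻¹
        have h3 := (hQmem _).1 h2
        simpa using h3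
      have h41 : cm x 4 1 ∈ seg x 2 3 := by
        have hm := hall _ (hsP.ge hpP) _ hQh
        have hh : Commute (y * x 3 * y⁻¹ * (F.h⁻¹ * x 1 * F.h) * (y * x 3 * y⁻¹)⁻¹ * (F.h⁻¹ * x 1 * F.h)⁻¹) F.h :=
          hcen _ hm _ (hsH.ge F.hH)
        have e : cm x 4 1 = F.h * (y * x 3 * y⁻¹ * (F.h⁻¹ * x 1 * F.h) * (y * x 3 * y⁻¹)⁻¹ *
            (F.h⁻¹ * x 1 * F.h)⁻¹) * F.h⁻¹ := by
          rw [cm, ← hxt]
          group
        rw [e, ← hh.eq, mul_inv_cancel_right]
        exact hm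
      rw [cm_swap] at h41
      have hsh : ∀ d l, ((MulAut.conj (F.h * y)) ^ d) (x l) = x (l + d) := hx ▸ F.shift
      have h14 : cm x 1 4 ∈ seg x 3 4 := cm_mem_shift hsh hc 1
      have hd := hch.disjoint (i := 2) (l := 3) (j := 4) (by norm_num) (by norm_num) (by norm_num)
        fun m n h1 h2 h3 h4 => hcomm m n (by omega) (by omega)
      have h1 : cm x 1 4 = 1 := Subgroup.mem_bot.1 (hd.le ⟨(inv_mem_iff (H := seg x 2 3)).1 h41, h14⟩)
      rw [cm, mul_inv_eq_one, mul_inv_eq_iff_eq_mul] at h1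
      have h03 := hch.shift 1 4 (-1) h1
      norm_num at h03
      exact hne h03
    obtain ⟨z, hz⟩ : ∃ z : H, z = ⟨x 2, hxH 2 (by norm_num) (by norm_num)⟩ := ⟨_, rfl⟩
    have hzseg : ∀ w ∈ zpowers z, (w : G) ∈ seg x 2 3 := fun w hw => by
      obtain ⟨k, rfl⟩ := mem_zpowers_iff.1 hw
      rw [hz]
      exact zpow_mem (mem_seg le_rfl (by norm_num)) k
    have hzc : z ∈ center H := mem_center_iff.2 fun g => Subtype.ext
      (hcen (z : G) (hzseg z (mem_zpowers z)) g (hsH.ge g.2)).eq.symm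
    have hz2 : z * z = 1 := hz ▸ Subtype.ext (hi 2)
    have hzcard : Nat.card (zpowers z) = 2 := by
      rw [Nat.card_zpowers]
      exact orderOf_eq_prime (by rw [sq, hz2]) fun h => ne_one hch (by norm_num) 2
        (by rw [hz] at h; exact congrArg Subtype.val h)
    obtain ⟨M, hMn, hMc, hcore, π, hπ, hker⟩ := four_quotient (P.subgroupOf H) (Cfsg.pCore 2 ↥H) (zpowers z) hP' hPsyl hQle
      (zpowers_le.2 (hz ▸ (hQmem _).2 (mem_seg (by norm_num) (by norm_num)))) (zpowers_le.2 hzc) hQ2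
      (by rw [hQcard, hzcard]) (by rw [hP'card, hQcard])
      ⟨x 0, hxH 0 le_rfl (by norm_num)⟩ ⟨x 3, hxH 3 (by norm_num) (by norm_num)⟩
      (mem_subgroupOf.2 (hsP.le (mem_seg le_rfl (by norm_num)))) ((hQmem _).2 (mem_seg (by norm_num) (by norm_num)))
      (fun h => hcW (hzseg _ h)) _ _ (mem_subgroupOf.2 hpP) hgp (hgpq _)
    obtain ⟨c, hc⟩ : ∃ c, c = cm x 0 3 := ⟨_, rfl⟩
    rw [← hc] at h3 hcW
    have hc14 : c ∈ seg x 1 4 := seg_mono le_rfl (by norm_num) h3
    have hab' : ∀ m n : ℤ, 1 ≤ m → m < 4 → 1 ≤ n → n < 4 → Commute (x m) (x n) := fun m n _ _ _ _ =>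
      hcomm m n (by omega) (by omega)
    have hc2 : c * c = 1 := sq_seg hch (by norm_num) hab' hc14
    have hc3 : Commute c (x 3) := commute_seg hab' hc14 (mem_seg (by norm_num) (by norm_num))
    have h0c : Commute (x 0) c := by
      have hl : seg x 1 3 ≤ centralizer {x 0} := seg_le_iff.2 fun l h1 h2 =>
        mem_centralizer_singleton_iff.2 (hcomm l 0 (by omega) (by omega)).eq
      exact (mem_centralizer_singleton_iff.1 (hl h3) : Commute c (x 0)).symm
    have h03 : x 0 * x 3 * x 0 = c * x 3 := by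
      rw [hc, cm, inv_mul_cancel_right, inv_eq_self hch (by norm_num)]
    obtain ⟨A, hA⟩ : ∃ A : Set G, A = {1, c, x 3, c * x 3} := ⟨_, rfl⟩
    have e1 : ∀ b, c * (c * b) = b := fun b => by rw [← mul_assoc, hc2, one_mul]
    have e2 : ∀ b, x 3 * (x 3 * b) = b := fun b => by rw [← mul_assoc, hi, one_mul]
    have e3 : ∀ b, x 3 * (c * b) = c * (x 3 * b) := fun b => by rw [← mul_assoc, ← hc3.eq, mul_assoc]
    have hAmul : ∀ u ∈ A, ∀ v ∈ A, u * v ∈ A := by
      intro u hu v hv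
      simp only [hA, Set.mem_insert_iff, Set.mem_singleton_iff] at hu hv ⊢
      rcases hu with rfl | rfl | rfl | rfl <;> rcases hv with rfl | rfl | rfl | rfl <;>
        simp [e1, e2, e3, hc2, hi, hc3.eq.symm, mul_assoc]
    have hAinv : ∀ u ∈ A, u⁻¹ ∈ A := by
      intro u hu
      simp only [hA, Set.mem_insert_iff, Set.mem_singleton_iff] at hu ⊢
      rcases hu with rfl | rfl | rfl | rfl <;>
        simp [inv_eq_of_mul_eq_one_left hc2, inv_eq_self hch (show 1 ≤ 3 + 1 by norm_num), hc3.eq.symm]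
    have hAconj : ∀ u ∈ A, x 0 * u * x 0 ∈ A := by
      intro u hu
      simp only [hA, Set.mem_insert_iff, Set.mem_singleton_iff] at hu ⊢
      rcases hu with rfl | rfl | rfl | rfl
      · exact Or.inl (by rw [mul_one, hi])
      · exact Or.inr (Or.inl (by rw [h0c.eq, mul_assoc, hi, mul_one]))
      · exact Or.inr (Or.inr (Or.inr h03))
      · refine Or.inr (Or.inr (Or.inl ?_))
        rw [show x 0 * (c * x 3) * x 0 = c * (x 0 * x 3 * x 0) by rw [← mul_assoc, h0c.eq]; group, h03, e1]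
    let M₀ : Subgroup G :=
      { carrier := {g | g ∈ A ∨ x 0 * g ∈ A}
        one_mem' := Or.inl (by simp [hA])
        mul_mem' := by
          rintro u v (hu | hu) (hv | hv)
          · exact Or.inl (hAmul _ hu _ hv)
          · refine Or.inr ?_
            rw [show x 0 * (u * v) = (x 0 * u * x 0) * (x 0 * v) by
              simp only [mul_assoc]; rw [← mul_assoc (x 0) (x 0), hi, one_mul]]
            exact hAmul _ (hAconj _ hu) _ hv
          · exact Or.inr (by rw [← mul_assoc]; exact hAmul _ hu _ hv)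
          · refine Or.inl ?_
            rw [show u * v = (x 0 * (x 0 * u) * x 0) * (x 0 * v) by
              simp only [mul_assoc]; rw [← mul_assoc (x 0) (x 0), hi, one_mul, ← mul_assoc (x 0) (x 0), hi, one_mul]]
            exact hAmul _ (hAconj _ hu) _ hv
        inv_mem' := by
          rintro u (hu | hu)
          · exact Or.inl (hAinv _ hu)
          · refine Or.inr ?_
            rw [show x 0 * u⁻¹ = x 0 * (x 0 * u)⁻¹ * x 0 by group]
            exact hAconj _ (hAinv _ hu) }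
    have hx2A : x 2 ∉ A := by
      intro h
      simp only [hA, Set.mem_insert_iff, Set.mem_singleton_iff] at h
      rcases h with h | h | h | h
      · exact ne_one hch (by norm_num) 2 h
      · exact hcW (h ▸ mem_seg le_rfl (by norm_num))
      · exact not_mem_bot hch (i := 2) (j := 4) (by norm_num) (by norm_num) (h ▸ mem_seg le_rfl (by norm_num))
      · refine not_mem_top hch (i := 1) (j := 3) (by norm_num) (by norm_num) ?_
        have := mul_mem (inv_mem h3) (mem_seg (x := x) (i := 1) (j := 3) (l := 2) (by norm_num) (by norm_num))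
        rwa [h, inv_mul_cancel_left] at this
    have hz0 : x 2 ∉ M₀ := by
      rintro (h | h)
      · exact hx2A h
      · have hA14 : ∀ u ∈ A, u ∈ seg x 1 4 := by
          intro u hu
          simp only [hA, Set.mem_insert_iff, Set.mem_singleton_iff] at hu
          rcases hu with rfl | rfl | rfl | rfl
          · exact one_mem _
          · exact hc14
          · exact mem_seg (by norm_num) (by norm_num)
          · exact mul_mem hc14 (mem_seg (by norm_num) (by norm_num))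
        have := mul_mem (hA14 _ h) (inv_mem (mem_seg (x := x) (i := 1) (j := 4) (l := 2) (by norm_num) (by norm_num)))
        rw [mul_inv_cancel_right] at this
        exact not_mem_bot hch (i := 0) (j := 4) (by norm_num) (by norm_num) this
    have hmA : ∀ u ∈ A, u ∈ M₀ := fun u hu => Or.inl hu
    have hsplit : ∀ p ∈ seg x 0 4, p ∈ M₀ ∨ p * x 2 ∈ M₀ := by
      intro p hp
      have hz2' : ∀ u ∈ seg x 0 4, Commute (x 2) u := fun u hu =>
        hcen _ (mem_seg le_rfl (by norm_num)) u (seg_mono le_rfl (by norm_num) hu)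
      refine closure_induction (p := fun g _ => g ∈ M₀ ∨ g * x 2 ∈ M₀) ?_ (Or.inl (one_mem _))
        (fun u v _ hv iu iv => ?_) (fun u hu iu => ?_) hp
      · rintro _ ⟨l, ⟨hl1, hl2⟩, rfl⟩
        rcases show l = 0 ∨ l = 1 ∨ l = 2 ∨ l = 3 by omega with rfl | rfl | rfl | rfl
        · exact Or.inl (Or.inr (by simp [hA, hi]))
        · rcases mem_seg_two (i := 1) (hi 1) (hi _) (hcomm 1 _ (by norm_num) (by norm_num)) h3 with e | e | e | e
          · exact absurd (e ▸ one_mem _) hcW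
          · exact Or.inl (hmA _ (by rw [← e]; simp [hA]))
          · exact absurd (e ▸ mem_seg le_rfl (by norm_num)) hcW
          · exact Or.inr (hmA _ (by norm_num at e; rw [← e]; simp [hA]))
        · exact Or.inr (by rw [hi]; exact one_mem _)
        · exact Or.inl (hmA _ (by simp [hA]))
      · rcases iu with iu | iu <;> rcases iv with iv | iv
        · exact Or.inl (mul_mem iu iv)
        · exact Or.inr (by rw [mul_assoc]; exact mul_mem iu iv)
        · refine Or.inr ?_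
          rw [mul_assoc, ← (hz2' v hv).eq, ← mul_assoc]; exact mul_mem iu iv
        · refine Or.inl ?_
          have := mul_mem iu iv
          rwa [mul_assoc u, ← mul_assoc (x 2), (hz2' v hv).eq, mul_assoc v, hi, mul_one] at this
      · rcases iu with iu | iu
        · exact Or.inl (inv_mem iu)
        · refine Or.inr ?_
          have := inv_mem iu
          rwa [mul_inv_rev, inv_eq_self hch (by norm_num), (hz2' u hu).inv_right.eq] at this
    obtain ⟨ψ, hψ⟩ := exists_hom_ne_one (P.subgroupOf H) hPsyl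
      (show z ∈ P.subgroupOf H from hz ▸ hsP.le (mem_seg (by norm_num) (by norm_num))) hzc hz2 (M₀.subgroupOf H)
      (hz ▸ fun h => hz0 h) fun p hp => by
        rcases hsplit p (hsP.ge hp) with h | h
        · exact Or.inl h
        · exact Or.inr (hz ▸ h)
    haveI := hMn
    obtain ⟨e⟩ := prod_quotient hMc hz2 π hπ hker ψ hψ
    exact ⟨Or.inr hPcard, Or.inr ⟨(QuotientGroup.quotientMulEquivOfEq hcore).trans e⟩⟩

/-- The shape of a 2-local subgroup with dihedral quotient and no normal subgroup moved onto another. -/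
theorem shape (hO : Cfsg.pCore 2 ↥H ≠ ⊥) (n : ℕ) (hn : 2 ≤ n)
    (hdih : Nonempty (↥H ⧸ Cfsg.pCore 2 ↥H ≃* DihedralGroup n)) (hPH : P ≤ H) (hP : IsPGroup 2 P)
    (hPsyl : ¬ 2 ∣ P.relIndex H) (hyN : MulAut.conj y • P = P)
    (hy : ∀ R R' : Subgroup G, R ≤ P → R' ≤ P → (R.subgroupOf H).Normal → (R'.subgroupOf H).Normal →
      MulAut.conj y • R = R' → R = ⊥) :
    (Nat.card P = 4 ∧ (∀ a ∈ P, ∀ b ∈ P, Commute a b) ∧
      Nonempty (↥H ⧸ Cfsg.oddCore ↥H ≃* Multiplicative (ZMod 2) × Multiplicative (ZMod 2))) ∨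
    ((Nat.card P = 8 ∨ Nat.card P = 16) ∧ (Nonempty (↥H ⧸ Cfsg.oddCore ↥H ≃* Equiv.Perm (Fin 4)) ∨
      Nonempty (↥H ⧸ Cfsg.oddCore ↥H ≃* Equiv.Perm (Fin 4) × Multiplicative (ZMod 2)))) := by
  classical
  haveI : Fact (Nat.Prime 2) := ⟨Nat.prime_two⟩
  obtain ⟨F⟩ := exists_frame hO n hn hdih hPH hP hPsyl hyN hy
  have hch := F.chain
  obtain ⟨a, ha1, hat, hcomm', hne⟩ : ∃ a, 1 ≤ a ∧ a ≤ F.t ∧
      (∀ i j : ℤ, i ≤ j → j < i + a → Commute (F.x i) (F.x j)) ∧ (a < F.t → ¬ Commute (F.x 0) (F.x a)) := by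
    have hex : ∃ a, F.t ≤ a ∨ ¬ Commute (F.x 0) (F.x a) := ⟨F.t, Or.inl le_rfl⟩
    refine ⟨Nat.find hex, ?_, Nat.find_le (Or.inl le_rfl), fun i j hij hj => ?_,
      fun h => (Nat.find_spec hex).resolve_left (by omega)⟩
    · by_contra hc
      rcases Nat.find_spec hex with h | h
      · have := F.ht; omega
      · rw [show Nat.find hex = 0 by omega] at h
        exact h (by simp)
    · obtain ⟨d, rfl⟩ : ∃ d : ℕ, j = i + d := ⟨(j - i).toNat, by omega⟩
      have h := Nat.find_min hex (m := d) (by omega)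
      rw [not_or, not_not] at h
      have := hch.shift 0 (d : ℤ) i h.2
      rwa [zero_add, add_comm] at this
  have hcomm : ∀ i j : ℤ, i < j + a → j < i + a → Commute (F.x i) (F.x j) := fun i j h1 h2 => by
    rcases le_total i j with h | h
    · exact hcomm' i j h h2
    · exact (hcomm' j i h h1).symm
  have hsmall := F.small hy hyN hcomm
  have ht := F.ht
  rcases hat.eq_or_lt with h | h
  · obtain ⟨h2, rfl⟩ : F.t = 2 ∧ a = 2 := by omega
    exact Or.inl (F.two_shape hPH hP hPsyl h2 (by exact_mod_cast hcomm))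
  · have h3 := hch.two_mul_le ha1 h hcomm' (hne h)
    rcases eq_or_ne F.t 6 with h6 | h6
    · obtain rfl : a = 4 := by omega
      exact absurd (hne h) fun hn4 => (F.six_false hy hyN hcomm h6 rfl hn4).elim
    · exact Or.inr (F.big_shape hPH hyN hP hPsyl (a := a) (by omega) (by omega) hcomm (hne h))

end CfsgLib.PGroup.IndexChain.TwoDihedral
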